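import Cfsg.Agent.ChevalleyStructure.Ree.Words

/-!
# Elements of the small Ree groups as elements of `GL`
-/

set_option autoImplicit false

namespace Cfsg.Agent.ChevalleyStructure.Ree.Gens

open Cfsg.Lie Cfsg.Agent.ChevalleyStructure.Ree.Checks Cfsg.Agent.ChevalleyStructure.Ree.Words

variable {K : Type*} [Field K]

theorem X_of_not_lt {r : ℕ} (hr : ¬ r < 12) (t : K) : X r t = 1 := dif_neg hr

theorem X_mul_neg (r : ℕ) (t : K) : X r t * X r (-t) = 1 := by
  by_cases hr : r < 12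
  · rw [X_add hr, add_neg_cancel, X_zero hr]
  · rw [X_of_not_lt hr, X_of_not_lt hr, one_mul]

/-- root elements in `GL` -/
def xU (r : ℕ) (t : K) : GL chevG2.Idx K where
  val := X r t
  inv := X r (-t)
  val_inv := X_mul_neg r t
  inv_val := by simpa using X_mul_neg r (-t)

theorem coe_xU (r : ℕ) (t : K) : ((xU r t : GL chevG2.Idx K) : Matrix chevG2.Idx chevG2.Idx K) = X r t := rfl

/-- words in `GL` -/
def wordU (w : List (ℕ × K)) : GL chevG2.Idx K := (w.map fun p => xU p.1 p.2).prod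

theorem coe_wordU (w : List (ℕ × K)) :
    ((wordU w : GL chevG2.Idx K) : Matrix chevG2.Idx chevG2.Idx K) = chevG2.wordMat K w := by
  unfold wordU ChevalleyDatum.wordMat
  induction w with
  | nil => simp
  | cons p w ih => rw [List.map_cons, List.prod_cons, List.map_cons, List.prod_cons, Units.val_mul, ih, coe_xU]

/-- `reeWordU` in `GL` -/
def wU (e : ℕ) (t u v : K) : GL chevG2.Idx K := wordU (reeWordU e t u v)

/-- `reeWordV` in `GL` -/
def vU (e : ℕ) (t u v : K) : GL chevG2.Idx K := wordU (reeWordV e t u v)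

theorem coe_wU (e : ℕ) (t u v : K) :
    ((wU e t u v : GL chevG2.Idx K) : Matrix chevG2.Idx chevG2.Idx K) = W e t u v := coe_wordU _

theorem coe_vU (e : ℕ) (t u v : K) :
    ((vU e t u v : GL chevG2.Idx K) : Matrix chevG2.Idx chevG2.Idx K) = V e t u v := coe_wordU _

theorem wU_mem (e : ℕ) (t u v : K) : wU e t u v ∈ twistedG2 K e :=
  Subgroup.subset_closure ⟨_, ⟨t, u, v, Or.inl rfl⟩, coe_wU e t u v⟩

theorem vU_mem (e : ℕ) (t u v : K) : vU e t u v ∈ twistedG2 K e :=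
  Subgroup.subset_closure ⟨_, ⟨t, u, v, Or.inr rfl⟩, coe_vU e t u v⟩

/-- `twistedG2 K e ≤ L` can be checked on `wU`, `vU`. -/
theorem twistedG2_le_iff (e : ℕ) (L : Subgroup (GL chevG2.Idx K)) :
    twistedG2 K e ≤ L ↔ (∀ t u v, wU e t u v ∈ L) ∧ ∀ t u v, vU e t u v ∈ L := by
  constructor
  · exact fun h => ⟨fun t u v => h (wU_mem e t u v), fun t u v => h (vU_mem e t u v)⟩
  · rintro ⟨h1, h2⟩
    unfold twistedG2 ChevalleyDatum.genSubgroup
    rw [Subgroup.closure_le]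
    rintro g ⟨w, ⟨t, u, v, rfl | rfl⟩, hg⟩
    · have : g = wU e t u v := Units.ext (by rw [hg, coe_wU])
      rw [this]; exact h1 t u v
    · have : g = vU e t u v := Units.ext (by rw [hg, coe_vU])
      rw [this]; exact h2 t u v

/-- `n₀` in `GL` -/
def nU (K : Type*) [Field K] : GL chevG2.Idx K := ⟨nMat K, nMat K, n_sq, n_sq⟩

theorem coe_nU : ((nU K : GL chevG2.Idx K) : Matrix chevG2.Idx chevG2.Idx K) = nMat K := rfl

theorem nU_mul_self : nU K * nU K = 1 := Units.ext n_sq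

theorem nU_inv : (nU K)⁻¹ = nU K := inv_eq_of_mul_eq_one_right nU_mul_self

theorem hMat_mul_inv {α β : K} (hα : α ≠ 0) (hβ : β ≠ 0) : hMat α β * hMat α⁻¹ β⁻¹ = 1 := by
  rw [hMat_mul, mul_inv_cancel₀ hα, mul_inv_cancel₀ hβ, hMat_one]

/-- torus elements of the ambient group in `GL` -/
def hU (α β : Kˣ) : GL chevG2.Idx K where
  val := hMat (α : K) (β : K)
  inv := hMat (α : K)⁻¹ (β : K)⁻¹
  val_inv := hMat_mul_inv α.ne_zero β.ne_zero
  inv_val := by
    have := hMat_mul_inv (inv_ne_zero α.ne_zero) (inv_ne_zero β.ne_zero)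
    rwa [inv_inv, inv_inv] at this

theorem coe_hU (α β : Kˣ) : ((hU α β : GL chevG2.Idx K) : Matrix chevG2.Idx chevG2.Idx K) = hMat (α : K) (β : K) := rfl

theorem hU_mul (α β γ δ : Kˣ) : hU α β * hU γ δ = hU (α * γ) (β * δ) := by
  apply Units.ext
  rw [Units.val_mul, coe_hU, coe_hU, coe_hU, hMat_mul, Units.val_mul, Units.val_mul]

theorem hU_one : hU (1 : Kˣ) 1 = 1 := by
  apply Units.ext
  rw [coe_hU, Units.val_one, hMat_one, Units.val_one]

/-- torus elements of the Ree group -/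
def tU (e : ℕ) (α : Kˣ) : GL chevG2.Idx K := hU α (α ^ (3 * e))

theorem coe_tU (e : ℕ) (α : Kˣ) :
    ((tU e α : GL chevG2.Idx K) : Matrix chevG2.Idx chevG2.Idx K) = hMat (α : K) ((α : K) ^ (3 * e)) := by
  rw [tU, coe_hU, Units.val_pow_eq_pow_val]

theorem tU_mul (e : ℕ) (α β : Kˣ) : tU e α * tU e β = tU e (α * β) := by
  rw [tU, tU, tU, hU_mul, mul_pow]

theorem tU_one (e : ℕ) : tU e (1 : Kˣ) = 1 := by
  rw [tU, one_pow, hU_one]

variable {e : ℕ}

theorem wU_mul (h : Theta K e) (t u v t1 u1 v1 : K) :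
    wU e t u v * wU e t1 u1 v1 =
      wU e (t + t1) (u + u1 - t * (t1 ^ e) ^ 3)
        (v + v1 - u * t1 - t ^ 2 * (t1 ^ e) ^ 3 + t * t1 * (t1 ^ e) ^ 3) := by
  apply Units.ext
  rw [Units.val_mul, coe_wU, coe_wU, coe_wU, W_mul h]

theorem wU_zero (h : Theta K e) : wU e (0 : K) 0 0 = 1 := by
  apply Units.ext
  rw [coe_wU, W_zero h, Units.val_one]

theorem nU_conj_wU (h : Theta K e) (t u v : K) : nU K * wU e t u v * (nU K)⁻¹ = vU e t u v := by
  apply Units.ext
  rw [nU_inv, Units.val_mul, Units.val_mul, coe_wU, coe_vU, coe_nU, n_W_n h]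

theorem nU_conj_vU (h : Theta K e) (t u v : K) : nU K * vU e t u v * (nU K)⁻¹ = wU e t u v := by
  apply Units.ext
  rw [nU_inv, Units.val_mul, Units.val_mul, coe_wU, coe_vU, coe_nU, n_V_n h]

theorem nU_mem (h : Theta K e) : nU K ∈ twistedG2 K e := by
  have : nU K = wU e (0 : K) 1 0 * vU e 0 1 0 * wU e 0 1 0 := by
    apply Units.ext
    rw [Units.val_mul, Units.val_mul, coe_wU, coe_vU, coe_nU, W_V_W h]
  rw [this]
  exact mul_mem (mul_mem (wU_mem e _ _ _) (vU_mem e _ _ _)) (wU_mem e _ _ _)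

theorem tU_conj_wU (h : Theta K e) (α : Kˣ) (t u v : K) :
    tU e α * wU e t u v * (tU e α)⁻¹ =
      wU e ((α : K) ^ (3 * e) * t) ((α : K) ^ (3 * e) * (α : K) ^ 3 * u) ((α : K) ^ (6 * e) * (α : K) ^ 3 * v) := by
  rw [mul_inv_eq_iff_eq_mul]
  apply Units.ext
  rw [Units.val_mul, Units.val_mul, coe_wU, coe_wU, coe_tU, h_W h α.ne_zero]

theorem tU_sq_mem (h : Theta K e) (γ : Kˣ) : tU e (γ ^ 2) ∈ twistedG2 K e := by
  set k : Kˣ := γ ^ (3 * e) * γ ^ 3 with hk
  have hke : k ^ e = γ * γ ^ (3 * e) := by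
    apply Units.ext
    rw [hk, mul_pow, ← pow_mul γ 3 e, Units.val_mul, Units.val_mul, Units.val_pow_eq_pow_val,
      Units.val_pow_eq_pow_val, h.inv]
  have : tU e (γ ^ 2) = wU e 0 (k : K) 0 * vU e 0 (k : K)⁻¹ 0 * wU e 0 (k : K) 0 * nU K := by
    apply Units.ext
    rw [Units.val_mul, Units.val_mul, Units.val_mul, coe_wU, coe_vU, coe_nU, W_V_W_n h k.ne_zero, tU, coe_hU]
    have e1 : γ ^ 2 = (k ^ e)⁻¹ * k := by
      rw [hke, hk, mul_inv, pow_succ γ 2, mul_assoc, ← mul_assoc (γ ^ (3 * e))⁻¹, inv_mul_cancel, one_mul,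
        mul_comm (γ ^ 2) γ, inv_mul_cancel_left]
    have e2 : (γ ^ 2) ^ (3 * e) = (k ^ e) ^ 3 * k⁻¹ := by
      rw [hke, hk, ← pow_mul, mul_comm 2, pow_mul γ (3 * e) 2]
      generalize γ ^ (3 * e) = δ
      rw [mul_pow, mul_inv, pow_succ δ 2]
      calc δ ^ 2 = γ ^ 3 * (γ ^ 3)⁻¹ * (δ ^ 2 * (δ * δ⁻¹)) := by rw [mul_inv_cancel, mul_inv_cancel, one_mul, mul_one]
        _ = _ := by
          simp only [mul_comm, mul_assoc, mul_left_comm]
    congr 1
    · rw [e1]; simp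
    · rw [e2]; simp
  rw [this]
  exact mul_mem (mul_mem (mul_mem (wU_mem e _ _ _) (vU_mem e _ _ _)) (wU_mem e _ _ _)) (nU_mem h)

theorem tU_neg_one_mem (h : Theta K e) : tU e (-1 : Kˣ) ∈ twistedG2 K e := by
  have : tU e (-1 : Kˣ) = wU e (-1 : K) 0 (-1) * vU e 1 0 1 * wU e (-1) 0 (-1) * nU K := by
    apply Units.ext
    rw [Units.val_mul, Units.val_mul, Units.val_mul, coe_wU, coe_vU, coe_nU, h_inv_word h, tU, coe_hU]
    have ho : Odd (3 * e) := Odd.mul (by decide) h.odd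
    rw [ho.neg_one_pow]
    simp
  rw [this]
  exact mul_mem (mul_mem (mul_mem (wU_mem e _ _ _) (vU_mem e _ _ _)) (wU_mem e _ _ _)) (nU_mem h)

/-- The whole torus `{h : χ(b) = χ(a)^{3e}}` lies in the Ree group (`|K| = 3^(2m+1) ≡ 3 mod 4`). -/
theorem tU_mem {K : Type*} [Field K] [Fintype K] {m : ℕ} (hK : Fintype.card K = 3 ^ (2 * m + 1)) (α : Kˣ) :
    tU (3 ^ m) α ∈ twistedG2 K (3 ^ m) := by
  classical
  have h := theta_of_card hK
  have hcard : Fintype.card K % 4 = 3 := by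
    rw [hK, pow_succ, pow_mul, Nat.mul_mod, Nat.pow_mod]
    norm_num
  have hneg : ¬ IsSquare (-1 : K) := by
    rw [FiniteField.isSquare_neg_one_iff, hcard]
    simp
  have hchar : ringChar K ≠ 2 := by
    intro h2
    have := FiniteField.even_card_iff_char_two.1 h2
    omega
  have key : IsSquare (α : K) ∨ IsSquare (-(α : K)) := by
    by_contra hcon
    rw [not_or] at hcon
    obtain ⟨h1, h2⟩ := hcon
    have hm1 := quadraticChar_neg_one_iff_not_isSquare.2 h1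
    have hm2 := quadraticChar_neg_one_iff_not_isSquare.2 h2
    have hm3 := quadraticChar_neg_one_iff_not_isSquare.2 hneg
    rw [neg_eq_neg_one_mul, map_mul, hm1, hm3] at hm2
    norm_num at hm2
  have hsq : ∀ β : Kˣ, IsSquare (β : K) → tU (3 ^ m) β ∈ twistedG2 K (3 ^ m) := by
    rintro β ⟨γ, hγ⟩
    have hγ0 : γ ≠ 0 := by
      rintro rfl
      exact β.ne_zero (by rw [hγ, mul_zero])
    have : β = (Units.mk0 γ hγ0) ^ 2 := by
      apply Units.ext
      rw [Units.val_pow_eq_pow_val, Units.val_mk0, hγ, sq]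
    rw [this]
    exact tU_sq_mem h _
  rcases key with h1 | h1
  · exact hsq α h1
  · have : tU (3 ^ m) α = tU (3 ^ m) (-1) * tU (3 ^ m) (-α) := by
      rw [tU_mul, neg_one_mul, neg_neg]
    rw [this]
    exact mul_mem (tU_neg_one_mem h) (hsq (-α) (by rwa [Units.val_neg]))

end Cfsg.Agent.ChevalleyStructure.Ree.Gens
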