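/-
The closed conditions satisfied by all elements of the small Ree groups and their consequences: dichotomy for the
images of the highest short root vector, and rigidity.
-/
import Cfsg.Agent.ChevalleyStructure.Ree.Dichotomy

set_option autoImplicit false

set_option linter.dupNamespace false
set_option linter.unusedSectionVars false

namespace Cfsg.Agent.ChevalleyStructure.Ree.Good

open Cfsg.Lie Cfsg.Agent.ChevalleyStructure.WordCheck Cfsg.Agent.ChevalleyStructure.Ree.Bracket
open Cfsg.Agent.ChevalleyStructure.Ree.Dichotomy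
open scoped Matrix

variable {K : Type*} [Field K]

/-- the conditions -/
structure Good (φ : K →+* K) (g : Matrix chevG2.Idx chevG2.Idx K) : Prop where
  ideal : ∀ i j, g (L i) (S j) = 0
  twist : ∀ i j, g (L i) (L j) = φ (g (S i) (S j))
  equiv : ∀ y, AmV (g *ᵥ y) * Mb g = Mb g * AmV y

variable {φ : K →+* K} {g h : Matrix chevG2.Idx chevG2.Idx K}

theorem Mb_mul (hh : ∀ i j, h (L i) (S j) = 0) : Mb (g * h) = Mb g * Mb h := by
  ext i j
  rw [Mb_apply, Matrix.mul_apply, sum_split, Matrix.mul_apply]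
  simp only [hh, mul_zero, Finset.sum_const_zero, add_zero]
  rfl

theorem Nb_mul (hg : ∀ i j, g (L i) (S j) = 0) : Nb (g * h) = Nb g * Nb h := by
  ext i j
  rw [Nb_apply, Matrix.mul_apply, sum_split, Matrix.mul_apply]
  simp only [hg, zero_mul, Finset.sum_const_zero, zero_add]
  rfl

theorem ideal_mul (hg : ∀ i j, g (L i) (S j) = 0) (hh : ∀ i j, h (L i) (S j) = 0) (i j : Fin 7) :
    (g * h) (L i) (S j) = 0 := by
  rw [Matrix.mul_apply, sum_split]
  simp only [hg, hh, zero_mul, mul_zero, Finset.sum_const_zero, add_zero]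

theorem Mb_one : Mb (1 : Matrix chevG2.Idx chevG2.Idx K) = 1 := by
  ext i j
  rw [Mb_apply, Matrix.one_apply, Matrix.one_apply]
  by_cases hij : i = j
  · rw [if_pos hij, if_pos (by rw [hij])]
  · rw [if_neg hij, if_neg (fun h' => hij (S_injective h'))]

theorem Good.one : Good φ (1 : Matrix chevG2.Idx chevG2.Idx K) where
  ideal i j := Matrix.one_apply_ne (fun h' => S_ne_L j i h'.symm)
  twist i j := by
    rw [Matrix.one_apply, Matrix.one_apply]
    by_cases hij : i = j
    · rw [if_pos (by rw [hij]), if_pos (by rw [hij]), map_one]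
    · rw [if_neg (fun h' => hij (L_injective h')), if_neg (fun h' => hij (S_injective h')), map_zero]
  equiv y := by rw [Matrix.one_mulVec, Mb_one, mul_one, one_mul]

theorem Good.mul (hg : Good φ g) (hh : Good φ h) : Good φ (g * h) where
  ideal := ideal_mul hg.ideal hh.ideal
  twist i j := by
    have e1 : (g * h) (L i) (L j) = ∑ k, g (L i) (L k) * h (L k) (L j) := by
      rw [Matrix.mul_apply, sum_split]
      simp only [hg.ideal, zero_mul, Finset.sum_const_zero, zero_add]
    have e2 : (g * h) (S i) (S j) = ∑ k, g (S i) (S k) * h (S k) (S j) := by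
      rw [Matrix.mul_apply, sum_split]
      simp only [hh.ideal, mul_zero, Finset.sum_const_zero, add_zero]
    rw [e1, e2, map_sum]
    apply Finset.sum_congr rfl
    intro k _
    rw [hg.twist, hh.twist, map_mul]
  equiv y := by
    rw [← Matrix.mulVec_mulVec, Mb_mul hh.ideal, ← mul_assoc, hg.equiv, mul_assoc, hh.equiv, mul_assoc]

theorem Good.pow (hg : Good φ g) (n : ℕ) : Good φ (g ^ n) := by
  induction n with
  | zero => rw [pow_zero]; exact Good.one
  | succ n ih => rw [pow_succ]; exact ih.mul hg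

theorem AmV_injective {y y' : chevG2.Idx → K} (h : AmV y = AmV y') : y = y' := by
  have hh : ∀ i j, AmV y i j = AmV y' i j := fun i j => by rw [h]
  have s0 := hh 0 3
  have s1 := hh 0 2
  have s2 := hh 0 1
  have s3 := hh 0 0
  have s4 := hh 1 0
  have s5 := hh 2 0
  have s6 := hh 3 0
  have l0 := hh 0 5
  have l1 := hh 0 4
  have l2 := hh 1 2
  have l3 := hh 1 1
  have l4 := hh 2 1
  have l5 := hh 4 0
  have l6 := hh 5 0
  simp [AmV, Am] at s0 s1 s2 s3 s4 s5 s6 l0 l1 l2 l3 l4 l5 l6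
  rw [s3] at l3
  have l3' := sub_right_injective l3
  funext k
  rcases exists_S_or_L k with ⟨i, rfl⟩ | ⟨i, rfl⟩
  · fin_cases i <;> assumption
  · fin_cases i <;> assumption

/-- The block on the ideal determines a matrix satisfying the equivariance condition. -/
theorem eq_of_Mb_eq (hg : Good φ g) (hh : Good φ h) (N : Matrix (Fin 7) (Fin 7) K) (hN : Mb g * N = 1)
    (hM : Mb g = Mb h) : g = h := by
  have key : ∀ y, g *ᵥ y = h *ᵥ y := by
    intro y
    apply AmV_injective
    have h1 := hg.equiv y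
    have h2 := hh.equiv y
    rw [← hM] at h2
    have h3 : AmV (g *ᵥ y) * Mb g = AmV (h *ᵥ y) * Mb g := h1.trans h2.symm
    have h4 := congrArg (· * N) h3
    simp only [mul_assoc, hN, mul_one] at h4
    exact h4
  ext i j
  have h5 := congrFun (key (Pi.single j 1)) i
  rwa [Matrix.mulVec_single_one, Matrix.mulVec_single_one] at h5

/-- the action of the long root vector with index `a` -/
def AL (K : Type*) [CommRing K] (a : Fin 7) : Matrix (Fin 7) (Fin 7) K :=
  Am (fun _ => 0) (fun i => if i = a then 1 else 0)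

/-- the action of the short root vector with index `a` -/
def AS (K : Type*) [CommRing K] (a : Fin 7) : Matrix (Fin 7) (Fin 7) K :=
  Am (fun i => if i = a then 1 else 0) (fun _ => 0)

section Cols

/-- the action of the long root vectors -/
theorem AmV_single_L (a : Fin 7) : AmV (Pi.single (L a) 1 : chevG2.Idx → K) = AL K a := by
  unfold AmV AL
  congr 1
  · funext i
    exact Pi.single_eq_of_ne (S_ne_L i a) 1
  · funext i
    by_cases h : i = a
    · rw [h, if_pos rfl, Pi.single_eq_same]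
    · rw [if_neg h]
      exact Pi.single_eq_of_ne (fun h' => h (L_injective h')) 1

theorem AmV_single_S (a : Fin 7) : AmV (Pi.single (S a) 1 : chevG2.Idx → K) = AS K a := by
  unfold AmV AS
  congr 1
  · funext i
    by_cases h : i = a
    · rw [h, if_pos rfl, Pi.single_eq_same]
    · rw [if_neg h]
      exact Pi.single_eq_of_ne (fun h' => h (S_injective h')) 1
  · funext i
    exact Pi.single_eq_of_ne (fun h' => S_ne_L a i h'.symm) 1

theorem AmV_col (g : Matrix chevG2.Idx chevG2.Idx K) (j : chevG2.Idx) :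
    AmV (g *ᵥ Pi.single j 1) = Am (fun i => g (S i) j) (fun i => g (L i) j) := by
  unfold AmV
  rw [Matrix.mulVec_single_one]
  rfl

/-- the image of the long root vector `a` acting on the ideal -/
def gL (φ : K →+* K) (g : Matrix chevG2.Idx chevG2.Idx K) (a : Fin 7) : Matrix (Fin 7) (Fin 7) K :=
  Am (fun i => g (S i) (L a)) (fun i => φ (Mb g i a))

/-- the image of the short root vector `a` acting on the ideal -/
def gS (g : Matrix chevG2.Idx chevG2.Idx K) (a : Fin 7) : Matrix (Fin 7) (Fin 7) K :=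
  Am (fun i => Mb g i a) (fun _ => 0)

variable (hg : Good φ g)
include hg

theorem equiv_L (a : Fin 7) : gL φ g a * Mb g = Mb g * AL K a := by
  have h1 := hg.equiv (Pi.single (L a) 1)
  rw [AmV_col, AmV_single_L] at h1
  simp only [hg.twist] at h1
  exact h1

theorem equiv_S (a : Fin 7) : gS g a * Mb g = Mb g * AS K a := by
  have h1 := hg.equiv (Pi.single (S a) 1)
  rw [AmV_col, AmV_single_S] at h1
  simp only [hg.ideal] at h1
  exact h1

variable {N : Matrix (Fin 7) (Fin 7) K} (hN : Mb g * N = 1)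
include hN

theorem gL_eq (a : Fin 7) : gL φ g a = Mb g * AL K a * N := by
  rw [← equiv_L hg, mul_assoc, hN, mul_one]

theorem gS_eq (a : Fin 7) : gS g a = Mb g * AS K a * N := by
  rw [← equiv_S hg, mul_assoc, hN, mul_one]

omit hg hN in
theorem AL6_apply (M N : Matrix (Fin 7) (Fin 7) K) (i j : Fin 7) :
    (M * AL K 6 * N) i j = M i 5 * N 0 j - M i 6 * N 1 j := by
  rw [Matrix.mul_apply]
  simp [Matrix.mul_apply, Fin.sum_univ_succ, Am, AL]
  ring

omit hg hN in
theorem AL6_sq : AL K 6 * AL K 6 = 0 := by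
  rw [← mul_one (AL K 6 * AL K 6)]
  ext i j
  rw [AL6_apply]
  fin_cases i <;> simp [Am, AL]

omit hg hN in
theorem AL0_apply (M N : Matrix (Fin 7) (Fin 7) K) (i j : Fin 7) :
    (M * AL K 0 * N) i j = M i 0 * N 5 j - M i 1 * N 6 j := by
  rw [Matrix.mul_apply]
  simp [Matrix.mul_apply, Fin.sum_univ_succ, Am, AL]
  ring

omit hg hN in
theorem AL0_sq : AL K 0 * AL K 0 = 0 := by
  rw [← mul_one (AL K 0 * AL K 0)]
  ext i j
  rw [AL0_apply]
  fin_cases i <;> simp [Am, AL]

theorem gL_sq {a : Fin 7} (ha : AL K a * AL K a = 0) : gL φ g a * gL φ g a = 0 := by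
  rw [gL_eq hg hN]
  calc Mb g * AL K a * N * (Mb g * AL K a * N) = Mb g * AL K a * (N * Mb g) * AL K a * N := by
        simp only [mul_assoc]
    _ = 0 := by
      rw [mul_eq_one_comm.1 hN, mul_one, mul_assoc (Mb g), ha, mul_zero, zero_mul]

omit hN in
theorem gL6_mulVec : gL φ g 6 *ᵥ (fun i => Mb g i 6) = 0 := by
  have h1 : (fun i => Mb g i 6) = Mb g *ᵥ Pi.single 6 1 := by
    rw [Matrix.mulVec_single_one]; rfl
  rw [h1, Matrix.mulVec_mulVec, equiv_L hg, ← Matrix.mulVec_mulVec]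
  have h3 : AL K 6 *ᵥ Pi.single 6 1 = 0 := by
    rw [Matrix.mulVec_single_one]
    funext i
    fin_cases i <;> simp [Am, AL]
  rw [h3, Matrix.mulVec_zero]

theorem col6_dichotomy (h2 : (2 : K) ≠ 0) (h0 : Mb g 0 6 = 0) : ∀ i : Fin 7, i ≠ 6 → Mb g i 6 = 0 := by
  refine dichotomy h2 φ (fun i => Mb g i 6) (fun i => g (S i) (L 6)) (gL_sq hg hN AL6_sq) (gL6_mulVec hg) ?_ h0
  intro a b i j k
  have h := gL_eq hg hN 6
  unfold gL at h
  rw [h]
  simp only [AL6_apply]
  ring

omit hg hN in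
theorem AS6_sq_apply (M N : Matrix (Fin 7) (Fin 7) K) (i j : Fin 7) :
    (M * (AS K 6 * AS K 6) * N) i j = M i 6 * N 0 j := by
  have h : AS K 6 * AS K 6 = Matrix.of fun i j => if i = 6 ∧ j = 0 then 1 else 0 := by
    ext i j
    rw [Matrix.mul_apply]
    fin_cases i <;> fin_cases j <;> simp [Am, AS, Fin.sum_univ_succ]
  rw [h, Matrix.mul_apply]
  simp [Matrix.mul_apply, Fin.sum_univ_succ]

/-- the square of the action of the image of the highest short root vector has rank one -/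
theorem gS6_sq (i j : Fin 7) : (gS g 6 * gS g 6) i j = Mb g i 6 * N 0 j := by
  rw [← AS6_sq_apply, gS_eq hg hN 6]
  have : Mb g * AS K 6 * N * (Mb g * AS K 6 * N) = Mb g * AS K 6 * (N * Mb g) * AS K 6 * N := by
    simp only [mul_assoc]
  rw [this, mul_eq_one_comm.1 hN, mul_one, mul_assoc (Mb g)]

/-- the quadric -/
theorem col6_quadric (h2 : (2 : K) ≠ 0) (h0 : Mb g 0 6 ≠ 0) (h1 : Mb g 1 6 = 0) (h2' : Mb g 2 6 = 0)
    (h3 : Mb g 3 6 = 0) : Mb g 6 6 = 0 := by
  have e0 := gS6_sq hg hN 0 6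
  have e6 := gS6_sq hg hN 6 6
  rw [Matrix.mul_apply] at e0 e6
  simp [Am, gS, Fin.sum_univ_succ, h1, h2', h3] at e0 e6
  have e0' : Mb g 0 6 = N 0 6 := by
    rcases e0 with e0 | e0
    · exact e0
    · exact absurd e0 h0
  rw [← e0'] at e6
  have h : (2 : K) * (Mb g 0 6 * Mb g 6 6) = 0 := by
    linear_combination -e6
  rcases mul_eq_zero.1 h with h | h
  · exact absurd h h2
  · rcases mul_eq_zero.1 h with h | h
    · exact absurd h h0
    · exact h


/-- The image of the highest long root vector when the highest short root line is fixed. -/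
theorem gL6_short (hc : ∀ i : Fin 7, i ≠ 6 → Mb g i 6 = 0) (i : Fin 7) : g (S i) (L 6) = 0 := by
  have A2 : ∀ i j, ∑ k, gL φ g 6 i k * gL φ g 6 k j = 0 := fun i j => by
    rw [← Matrix.mul_apply, gL_sq hg hN AL6_sq, Matrix.zero_apply]
  have c0 := hc 0 (by decide)
  have c1 := hc 1 (by decide)
  have c2 := hc 2 (by decide)
  have c3 := hc 3 (by decide)
  have c4 := hc 4 (by decide)
  have c5 := hc 5 (by decide)
  have z0 : g (S 0) (L 6) = 0 := by
    have h := A2 0 6
    simpa [gL, Am, Fin.sum_univ_succ, c0, c1, c2, c3, c4, c5] using h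
  have z1 : g (S 1) (L 6) = 0 := by
    have h := A2 1 5
    simpa [gL, Am, Fin.sum_univ_succ, c0, c1, c2, c3, c4, c5, z0] using h
  have z2 : g (S 2) (L 6) = 0 := by
    have h := A2 2 4
    simpa [gL, Am, Fin.sum_univ_succ, c0, c1, c2, c3, c4, c5, z0, z1] using h
  have z3 : g (S 3) (L 6) = 0 := by
    have h := A2 4 4
    simpa [gL, Am, Fin.sum_univ_succ, c0, c1, c2, c3, c4, c5, z0, z1, z2] using h
  have z4 : g (S 4) (L 6) = 0 := by
    have h := A2 4 2
    simpa [gL, Am, Fin.sum_univ_succ, c0, c1, c2, c3, c4, c5, z0, z1, z2, z3] using h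
  have z5 : g (S 5) (L 6) = 0 := by
    have h := A2 5 1
    simpa [gL, Am, Fin.sum_univ_succ, c0, c1, c2, c3, c4, c5, z0, z1, z2, z3, z4] using h
  have z6 : g (S 6) (L 6) = 0 := by
    have h := A2 6 0
    simpa [gL, Am, Fin.sum_univ_succ, c0, c1, c2, c3, c4, c5, z0, z1, z2, z3, z4, z5] using h
  fin_cases i <;> assumption

/-- The image of the lowest long root vector when the lowest short root line is fixed. -/
theorem gL0_short (hc : ∀ i : Fin 7, i ≠ 0 → Mb g i 0 = 0) (i : Fin 7) : g (S i) (L 0) = 0 := by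
  have A2 : ∀ i j, ∑ k, gL φ g 0 i k * gL φ g 0 k j = 0 := fun i j => by
    rw [← Matrix.mul_apply, gL_sq hg hN AL0_sq, Matrix.zero_apply]
  have c6 := hc 6 (by decide)
  have c1 := hc 1 (by decide)
  have c2 := hc 2 (by decide)
  have c3 := hc 3 (by decide)
  have c4 := hc 4 (by decide)
  have c5 := hc 5 (by decide)
  have z6 : g (S 6) (L 0) = 0 := by
    have h := A2 6 0
    simpa [gL, Am, Fin.sum_univ_succ, c6, c1, c2, c3, c4, c5] using h
  have z5 : g (S 5) (L 0) = 0 := by
    have h := A2 5 1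
    simpa [gL, Am, Fin.sum_univ_succ, c6, c1, c2, c3, c4, c5, z6] using h
  have z4 : g (S 4) (L 0) = 0 := by
    have h := A2 4 2
    simpa [gL, Am, Fin.sum_univ_succ, c6, c1, c2, c3, c4, c5, z6, z5] using h
  have z3 : g (S 3) (L 0) = 0 := by
    have h := A2 4 4
    simpa [gL, Am, Fin.sum_univ_succ, c6, c1, c2, c3, c4, c5, z6, z5, z4] using h
  have z2 : g (S 2) (L 0) = 0 := by
    have h := A2 2 4
    simpa [gL, Am, Fin.sum_univ_succ, c6, c1, c2, c3, c4, c5, z6, z5, z4, z3] using h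
  have z1 : g (S 1) (L 0) = 0 := by
    have h := A2 1 5
    simpa [gL, Am, Fin.sum_univ_succ, c6, c1, c2, c3, c4, c5, z6, z5, z4, z3, z2] using h
  have z0 : g (S 0) (L 0) = 0 := by
    have h := A2 0 6
    simpa [gL, Am, Fin.sum_univ_succ, c6, c1, c2, c3, c4, c5, z6, z5, z4, z3, z2, z1] using h
  fin_cases i <;> assumption

omit hN in
theorem E6 (hc : ∀ i : Fin 7, i ≠ 6 → Mb g i 6 = 0) (hz : ∀ i, g (S i) (L 6) = 0) (i j : Fin 7) :
    ∑ k, Am (fun _ => 0) (fun i => if i = 6 then φ (Mb g 6 6) else 0) i k * Mb g k j =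
      ∑ k, Mb g i k * AL K 6 k j := by
  have h := congrFun (congrFun (equiv_L hg 6) i) j
  rw [Matrix.mul_apply, Matrix.mul_apply] at h
  rw [← h]
  have h2 : gL φ g 6 = Am (fun _ => 0) (fun i => if i = 6 then φ (Mb g 6 6) else 0) := by
    unfold gL
    congr 1
    · funext i; exact hz i
    · funext i
      by_cases hi : i = 6
      · rw [if_pos hi, hi]
      · rw [if_neg hi, hc i hi, map_zero]
  rw [h2]

omit hN in
theorem E0 (hc : ∀ i : Fin 7, i ≠ 0 → Mb g i 0 = 0) (hz : ∀ i, g (S i) (L 0) = 0) (i j : Fin 7) :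
    ∑ k, Am (fun _ => 0) (fun i => if i = 0 then φ (Mb g 0 0) else 0) i k * Mb g k j =
      ∑ k, Mb g i k * AL K 0 k j := by
  have h := congrFun (congrFun (equiv_L hg 0) i) j
  rw [Matrix.mul_apply, Matrix.mul_apply] at h
  rw [← h]
  have h2 : gL φ g 0 = Am (fun _ => 0) (fun i => if i = 0 then φ (Mb g 0 0) else 0) := by
    unfold gL
    congr 1
    · funext i; exact hz i
    · funext i
      by_cases hi : i = 0
      · rw [if_pos hi, hi]
      · rw [if_neg hi, hc i hi, map_zero]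
  rw [h2]

omit hN in
theorem F6 (hc : ∀ i : Fin 7, i ≠ 6 → Mb g i 6 = 0) (i j : Fin 7) :
    ∑ k, Am (fun i => if i = 6 then Mb g 6 6 else 0) (fun _ => 0) i k * Mb g k j =
      ∑ k, Mb g i k * AS K 6 k j := by
  have h := congrFun (congrFun (equiv_S hg 6) i) j
  rw [Matrix.mul_apply, Matrix.mul_apply] at h
  rw [← h]
  have h2 : gS g 6 = Am (fun i => if i = 6 then Mb g 6 6 else 0) (fun _ => 0) := by
    unfold gS
    congr 1
    funext i
    by_cases hi : i = 6
    · rw [if_pos hi, hi]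
    · rw [if_neg hi, hc i hi]
  rw [h2]

omit hN in
theorem F0 (hc : ∀ i : Fin 7, i ≠ 0 → Mb g i 0 = 0) (i j : Fin 7) :
    ∑ k, Am (fun i => if i = 0 then Mb g 0 0 else 0) (fun _ => 0) i k * Mb g k j =
      ∑ k, Mb g i k * AS K 0 k j := by
  have h := congrFun (congrFun (equiv_S hg 0) i) j
  rw [Matrix.mul_apply, Matrix.mul_apply] at h
  rw [← h]
  have h2 : gS g 0 = Am (fun i => if i = 0 then Mb g 0 0 else 0) (fun _ => 0) := by
    unfold gS
    congr 1
    funext i
    by_cases hi : i = 0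
    · rw [if_pos hi, hi]
    · rw [if_neg hi, hc i hi]
  rw [h2]

end Cols

/-- the diagonal of the element of the two point stabiliser with parameter `c` -/
def dfun (φ : K →+* K) (c : K) : Fin 7 → K :=
  ![c⁻¹, c * (φ c)⁻¹, (c ^ 2)⁻¹ * φ c, 1, c ^ 2 * (φ c)⁻¹, c⁻¹ * φ c, c]

/-- Rigidity: an element fixing the highest and the lowest short root lines is diagonal on the ideal. -/
theorem rigid (hg : Good φ g) {N : Matrix (Fin 7) (Fin 7) K} (hN : Mb g * N = 1)
    (h6 : ∀ i : Fin 7, i ≠ 6 → Mb g i 6 = 0) (h0 : ∀ i : Fin 7, i ≠ 0 → Mb g i 0 = 0) :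
    Mb g 6 6 ≠ 0 ∧ Mb g = Matrix.diagonal (dfun φ (Mb g 6 6)) := by
  have hc6 : Mb g 6 6 ≠ 0 := by
    intro hc
    have h1 : N * Mb g = 1 := mul_eq_one_comm.1 hN
    have h2 : (N * Mb g) 6 6 = 0 := by
      rw [Matrix.mul_apply]
      apply Finset.sum_eq_zero
      intro k _
      by_cases hk : k = 6
      · rw [hk, hc, mul_zero]
      · rw [h6 k hk, mul_zero]
    rw [h1, Matrix.one_apply_eq] at h2
    exact one_ne_zero h2
  refine ⟨hc6, ?_⟩
  have E6' := E6 hg h6 (gL6_short hg hN h6)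
  have E0' := E0 hg h0 (gL0_short hg hN h0)
  have F6' := F6 hg h6
  have F0' := F0 hg h0
  have m06 := h6 0 (by decide)
  have m16 := h6 1 (by decide)
  have m26 := h6 2 (by decide)
  have m36 := h6 3 (by decide)
  have m46 := h6 4 (by decide)
  have m56 := h6 5 (by decide)
  have m10 := h0 1 (by decide)
  have m20 := h0 2 (by decide)
  have m30 := h0 3 (by decide)
  have m40 := h0 4 (by decide)
  have m50 := h0 5 (by decide)
  have m60 := h0 6 (by decide)
  have E6a : ∀ i : Fin 7, Mb g i 5 = ∑ k, Am (fun _ => 0) (fun i => if i = 6 then φ (Mb g 6 6) else 0) i k * Mb g k 0 := by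
    intro i
    rw [E6' i 0]
    simp [Am, AL, Fin.sum_univ_succ]
  have E6b : ∀ i : Fin 7, - Mb g i 6 = ∑ k, Am (fun _ => 0) (fun i => if i = 6 then φ (Mb g 6 6) else 0) i k * Mb g k 1 := by
    intro i
    rw [E6' i 1]
    simp [Am, AL, Fin.sum_univ_succ]
  have E0a : ∀ i : Fin 7, Mb g i 0 = ∑ k, Am (fun _ => 0) (fun i => if i = 0 then φ (Mb g 0 0) else 0) i k * Mb g k 5 := by
    intro i
    rw [E0' i 5]
    simp [Am, AL, Fin.sum_univ_succ]
  have E0b : ∀ i : Fin 7, - Mb g i 1 = ∑ k, Am (fun _ => 0) (fun i => if i = 0 then φ (Mb g 0 0) else 0) i k * Mb g k 6 := by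
    intro i
    rw [E0' i 6]
    simp [Am, AL, Fin.sum_univ_succ]
  have F6a : ∀ i : Fin 7, - Mb g i 3 = ∑ k, Am (fun i => if i = 6 then Mb g 6 6 else 0) (fun _ => 0) i k * Mb g k 0 := by
    intro i
    rw [F6' i 0]
    simp [Am, AS, Fin.sum_univ_succ]
  have F6b : ∀ i : Fin 7, Mb g i 4 = ∑ k, Am (fun i => if i = 6 then Mb g 6 6 else 0) (fun _ => 0) i k * Mb g k 1 := by
    intro i
    rw [F6' i 1]
    simp [Am, AS, Fin.sum_univ_succ]
  have F0a : ∀ i : Fin 7, - Mb g i 2 = ∑ k, Am (fun i => if i = 0 then Mb g 0 0 else 0) (fun _ => 0) i k * Mb g k 5 := by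
    intro i
    rw [F0' i 5]
    simp [Am, AS, Fin.sum_univ_succ]
  have m05 : Mb g 0 5 = 0 := by rw [E6a]; simp [Am, Fin.sum_univ_succ]
  have m15 : Mb g 1 5 = 0 := by rw [E6a]; simp [Am, Fin.sum_univ_succ]
  have m25 : Mb g 2 5 = 0 := by rw [E6a]; simp [Am, Fin.sum_univ_succ]
  have m35 : Mb g 3 5 = 0 := by rw [E6a]; simp [Am, Fin.sum_univ_succ]
  have m45 : Mb g 4 5 = 0 := by rw [E6a]; simp [Am, Fin.sum_univ_succ]
  have m65 : Mb g 6 5 = 0 := by rw [E6a]; simp [Am, Fin.sum_univ_succ, m10]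
  have m55 : Mb g 5 5 = φ (Mb g 6 6) * Mb g 0 0 := by rw [E6a]; simp [Am, Fin.sum_univ_succ]
  have m01 : Mb g 0 1 = 0 := by
    have h := E0b 0
    simpa [Am, Fin.sum_univ_succ, m56] using h
  have m21 : Mb g 2 1 = 0 := by
    have h := E0b 2
    simpa [Am, Fin.sum_univ_succ] using h
  have m31 : Mb g 3 1 = 0 := by
    have h := E0b 3
    simpa [Am, Fin.sum_univ_succ] using h
  have m41 : Mb g 4 1 = 0 := by
    have h := E0b 4
    simpa [Am, Fin.sum_univ_succ] using h
  have m51 : Mb g 5 1 = 0 := by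
    have h := E0b 5
    simpa [Am, Fin.sum_univ_succ] using h
  have m61 : Mb g 6 1 = 0 := by
    have h := E0b 6
    simpa [Am, Fin.sum_univ_succ] using h
  have m11 : Mb g 1 1 = φ (Mb g 0 0) * Mb g 6 6 := by
    have h := E0b 1
    simpa [Am, Fin.sum_univ_succ] using h
  have hprod : φ (Mb g 6 6) * φ (Mb g 0 0) = 1 := by
    have h := E6b 6
    simp [Am, Fin.sum_univ_succ, m11] at h
    have h' : (φ (Mb g 6 6) * φ (Mb g 0 0)) * Mb g 6 6 = 1 * Mb g 6 6 := by
      linear_combination -h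
    exact mul_right_cancel₀ hc6 h'
  have hcc : Mb g 6 6 * Mb g 0 0 = 1 := by
    apply φ.injective
    rw [map_mul, hprod, map_one]
  have m03 : Mb g 0 3 = 0 := by
    have h := F6a 0
    simpa [Am, Fin.sum_univ_succ] using h
  have m13 : Mb g 1 3 = 0 := by
    have h := F6a 1
    simpa [Am, Fin.sum_univ_succ] using h
  have m23 : Mb g 2 3 = 0 := by
    have h := F6a 2
    simpa [Am, Fin.sum_univ_succ] using h
  have m33 : Mb g 3 3 = Mb g 6 6 * Mb g 0 0 := by
    have h := F6a 3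
    simpa [Am, Fin.sum_univ_succ] using h
  have m43 : Mb g 4 3 = 0 := by
    have h := F6a 4
    simpa [Am, Fin.sum_univ_succ, m10] using h
  have m53 : Mb g 5 3 = 0 := by
    have h := F6a 5
    simpa [Am, Fin.sum_univ_succ, m20] using h
  have m63 : Mb g 6 3 = 0 := by
    have h := F6a 6
    simpa [Am, Fin.sum_univ_succ, m30] using h
  have m04 : Mb g 0 4 = 0 := by rw [F6b]; simp [Am, Fin.sum_univ_succ]
  have m14 : Mb g 1 4 = 0 := by rw [F6b]; simp [Am, Fin.sum_univ_succ]
  have m24 : Mb g 2 4 = 0 := by rw [F6b]; simp [Am, Fin.sum_univ_succ]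
  have m34 : Mb g 3 4 = 0 := by rw [F6b]; simp [Am, Fin.sum_univ_succ, m01]
  have m44 : Mb g 4 4 = Mb g 6 6 * Mb g 1 1 := by rw [F6b]; simp [Am, Fin.sum_univ_succ]
  have m54 : Mb g 5 4 = 0 := by rw [F6b]; simp [Am, Fin.sum_univ_succ, m21]
  have m64 : Mb g 6 4 = 0 := by rw [F6b]; simp [Am, Fin.sum_univ_succ, m31]
  have m02 : Mb g 0 2 = 0 := by
    have h := F0a 0
    simpa [Am, Fin.sum_univ_succ, m35] using h
  have m12 : Mb g 1 2 = 0 := by
    have h := F0a 1
    simpa [Am, Fin.sum_univ_succ, m45] using h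
  have m22 : Mb g 2 2 = Mb g 0 0 * Mb g 5 5 := by
    have h := F0a 2
    simpa [Am, Fin.sum_univ_succ] using h
  have m32 : Mb g 3 2 = 0 := by
    have h := F0a 3
    simpa [Am, Fin.sum_univ_succ, m65] using h
  have m42 : Mb g 4 2 = 0 := by
    have h := F0a 4
    simpa [Am, Fin.sum_univ_succ] using h
  have m52 : Mb g 5 2 = 0 := by
    have h := F0a 5
    simpa [Am, Fin.sum_univ_succ] using h
  have m62 : Mb g 6 2 = 0 := by
    have h := F0a 6
    simpa [Am, Fin.sum_univ_succ] using h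
  have hφc : φ (Mb g 6 6) ≠ 0 := fun h => hc6 ((map_eq_zero φ).1 h)
  have c0 : Mb g 0 0 = (Mb g 6 6)⁻¹ := eq_inv_of_mul_eq_one_right hcc
  have φc0 : φ (Mb g 0 0) = (φ (Mb g 6 6))⁻¹ := eq_inv_of_mul_eq_one_right hprod
  ext i j
  by_cases hij : i = j
  · subst hij
    rw [Matrix.diagonal_apply_eq]
    fin_cases i
    · exact c0
    · show Mb g 1 1 = Mb g 6 6 * (φ (Mb g 6 6))⁻¹
      rw [m11, φc0]; ring
    · show Mb g 2 2 = ((Mb g 6 6) ^ 2)⁻¹ * φ (Mb g 6 6)
      rw [m22, m55, c0, pow_two, mul_inv]; ring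
    · show Mb g 3 3 = 1
      rw [m33, hcc]
    · show Mb g 4 4 = (Mb g 6 6) ^ 2 * (φ (Mb g 6 6))⁻¹
      rw [m44, m11, φc0]; ring
    · show Mb g 5 5 = (Mb g 6 6)⁻¹ * φ (Mb g 6 6)
      rw [m55, c0]; ring
    · rfl
  · rw [Matrix.diagonal_apply_ne _ hij]
    fin_cases i <;> fin_cases j <;> first | assumption | exact absurd rfl hij

end Cfsg.Agent.ChevalleyStructure.Ree.Good
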