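/-
The Bruhat normal form of the small Ree groups.
-/
import Cfsg.Agent.ChevalleyStructure.Ree.Good
import Cfsg.Agent.ChevalleyStructure.Ree.Gens
import Cfsg.Agent.ChevalleyStructure.ReeFixed

set_option autoImplicit false
set_option linter.dupNamespace false
set_option linter.unusedSectionVars false

namespace Cfsg.Agent.ChevalleyStructure.Ree.Bruhat

open Cfsg.Lie Cfsg.Agent.ChevalleyStructure.WordCheck Cfsg.Agent.ChevalleyStructure.WordEntry
open Cfsg.Agent.ChevalleyStructure.Ree.Bracket Cfsg.Agent.ChevalleyStructure.Ree.Good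
open Cfsg.Agent.ChevalleyStructure.Ree.Checks Cfsg.Agent.ChevalleyStructure.Ree.Words
open Cfsg.Agent.ChevalleyStructure.Ree.Gens
open scoped Matrix

/-! ### All elements satisfy the closed conditions -/

section AllGood
variable {K : Type*} [Field K]

/-- the equivariance part of `Good` -/
def Equi (g : Matrix chevG2.Idx chevG2.Idx K) : Prop :=
  (∀ i j, g (L i) (S j) = 0) ∧ ∀ y, AmV (g *ᵥ y) * Mb g = Mb g * AmV y

theorem Equi.one : Equi (1 : Matrix chevG2.Idx chevG2.Idx K) :=
  ⟨(Good.Good.one (φ := RingHom.id K)).ideal, (Good.Good.one (φ := RingHom.id K)).equiv⟩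

theorem Equi.mul {g h : Matrix chevG2.Idx chevG2.Idx K} (hg : Equi g) (hh : Equi h) : Equi (g * h) :=
  ⟨ideal_mul hg.1 hh.1, fun y => by
    rw [← Matrix.mulVec_mulVec, Mb_mul hh.1, ← mul_assoc, hg.2, mul_assoc, hh.2, mul_assoc]⟩

theorem equi_word (h3 : (3 : K) = 0) (w : List (ℕ × K)) (hw : ∀ p ∈ w, p.1 < 12) : Equi (chevG2.wordMat K w) := by
  induction w with
  | nil => exact Equi.one
  | cons p w ih =>
    have h1 : chevG2.wordMat K (p :: w) = chevG2.x K p.1 p.2 * chevG2.wordMat K w := by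
      simp [ChevalleyDatum.wordMat]
    rw [h1]
    have hp := hw p List.mem_cons_self
    exact Equi.mul ⟨x_LS h3 hp p.2, AmV_x h3 hp p.2⟩ (ih fun q hq => hw q (List.mem_cons_of_mem _ hq))

/-- translation of the index conventions -/
def tr : Fin 7 → Fin 7 := ![1, 2, 3, 0, 4, 5, 6]

theorem S_eq (i : Fin 7) : S i = ReeFixed.sh (tr i) := by
  fin_cases i <;> rfl

theorem L_eq (i : Fin 7) : L i = ReeFixed.lg (tr i) := by
  fin_cases i <;> rfl

/-- the map `x ↦ x^(3e)` -/
def phi (θ : K →+* K) (h3 : (3 : K) = 0) : K →+* K where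
  toFun x := (θ x) ^ 3
  map_one' := by simp
  map_mul' x y := by rw [map_mul, mul_pow]
  map_zero' := by simp
  map_add' x y := by
    rw [map_add, ReeFixed.cube_add (by exact_mod_cast h3)]

theorem phi_apply (θ : K →+* K) (h3 : (3 : K) = 0) (x : K) : phi θ h3 x = (θ x) ^ 3 := rfl

variable [Finite K] {θ : K →+* K} {e : ℕ} (h3 : (3 : K) = 0) (hθ : ReeFixed.IsTheta θ e)

include hθ in
theorem good_of_mem {g : GL chevG2.Idx K} (hg : g ∈ twistedG2 K e) :
    Good.Good (phi θ h3) (g : Matrix chevG2.Idx chevG2.Idx K) := by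
  have hfix := ReeFixed.fixed_of_mem_twistedG2 (by exact_mod_cast h3) hθ hg
  have hE : Equi (g : Matrix chevG2.Idx chevG2.Idx K) := by
    have hpow : ∀ (g : GL chevG2.Idx K) (n : ℕ), Equi (g : Matrix chevG2.Idx chevG2.Idx K) →
        Equi ((g ^ n : GL chevG2.Idx K) : Matrix chevG2.Idx chevG2.Idx K) := by
      intro g n h
      induction n with
      | zero => rw [pow_zero]; exact Equi.one
      | succ n ih => rw [pow_succ]; exact Equi.mul ih h
    unfold twistedG2 ChevalleyDatum.genSubgroup at hg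
    induction hg using Subgroup.closure_induction with
    | mem x hx =>
      obtain ⟨w, ⟨t, u, v, rfl | rfl⟩, hgw⟩ := hx
      · rw [hgw]
        exact equi_word h3 _ (ReeFixed.fst_lt (l := [7, 6, 8, 9, 10, 11]) rfl (by decide))
      · rw [hgw]
        exact equi_word h3 _ (ReeFixed.fst_lt (l := [4, 5, 3, 2, 1, 0]) rfl (by decide))
    | one => exact Equi.one
    | mul x y _ _ hx hy =>
      exact Equi.mul (hx (ReeFixed.fixed_of_mem_twistedG2 (by exact_mod_cast h3) hθ ‹_›))
        (hy (ReeFixed.fixed_of_mem_twistedG2 (by exact_mod_cast h3) hθ ‹_›))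
    | inv x hx' hx =>
      have : x⁻¹ = x ^ (orderOf x - 1) := by
        rw [eq_comm, eq_inv_iff_mul_eq_one, ← pow_succ, Nat.sub_add_cancel (orderOf_pos x), pow_orderOf_eq_one]
      rw [this]
      exact hpow x _ (hx (ReeFixed.fixed_of_mem_twistedG2 (by exact_mod_cast h3) hθ hx'))
  refine ⟨hE.1, fun i j => ?_, hE.2⟩
  rw [L_eq, L_eq, S_eq, S_eq, ← hfix.2, phi_apply, hθ.cube]

end AllGood

end Cfsg.Agent.ChevalleyStructure.Ree.Bruhat
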