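/-
The (B,N)-pair of the small Ree groups from the Bruhat normal form.
-/
import Cfsg.Agent.ChevalleyStructure.Ree.Normal
import Cfsg.Agent.ChevalleyStructure.Ree.Borel
import Cfsg.Agent.ChevalleyStructure.RankOneBN
import Cfsg.Agent.ChevalleyStructure.HDiagG2
import Cfsg.Agent.ChevalleyStructure.UnipMonomial
import Cfsg.Agent.ChevalleyStructure.NBlock
import Cfsg.Prelude.Def_LieExceptional

set_option autoImplicit false

namespace Cfsg.Agent.ChevalleyStructure.Ree.BN

open Cfsg.Lie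
open Cfsg.Agent.ChevalleyStructure.Ree.Bracket
open Cfsg.Agent.ChevalleyStructure.Ree.Checks Cfsg.Agent.ChevalleyStructure.Ree.Words
open Cfsg.Agent.ChevalleyStructure.Ree.Gens Cfsg.Agent.ChevalleyStructure.Ree.Blocks
open Cfsg.Agent.ChevalleyStructure.ReeFixed (IsTheta)
open Cfsg.Agent.ChevalleyStructure.Ree.Normal Cfsg.Agent.ChevalleyStructure.Ree.Borel
open Cfsg.Agent.ChevalleyStructure.BlockMonomial

variable {K : Type*} [Field K] {e : ℕ}

/-! ### Membership of the generators in the ambient subgroups -/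

theorem root_check : ∀ s : Fin 12, SparseHDiag.cartanRS chevG2 7 s.val = 2 * rootA s.val - 3 * rootB s.val ∧
    SparseHDiag.cartanRS chevG2 6 s.val = -rootA s.val + 2 * rootB s.val := by
  decide +kernel

/-- (L1) -/
theorem hU_mem (α β : Kˣ) : hU α β ∈ chevG2.diagonalSubgroup K := by
  have h7 : (7 : ℕ) < chevG2.nroots := by decide
  have h6 : (6 : ℕ) < chevG2.nroots := by decide
  have hm7 : ((α : K) ^ 2 * (β : K)) ≠ 0 := mul_ne_zero (pow_ne_zero _ α.ne_zero) β.ne_zero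
  have hm6 : ((α : K) ^ 3 * (β : K) ^ 2) ≠ 0 :=
    mul_ne_zero (pow_ne_zero _ α.ne_zero) (pow_ne_zero _ β.ne_zero)
  -- the generators
  have key : ∀ (r : ℕ) (_ : r < chevG2.nroots) (t : K) (_ : t ≠ 0), ∃ g : GL chevG2.Idx K,
      (g : Matrix chevG2.Idx chevG2.Idx K) = Matrix.diagonal (SparseHDiag.hVal chevG2 r t) ∧
        g ∈ chevG2.diagonalSubgroup K := by
    intro r hr t ht
    have h1 : Matrix.diagonal (SparseHDiag.hVal chevG2 r t) *
        Matrix.diagonal (SparseHDiag.hVal chevG2 r t⁻¹) = 1 := by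
      rw [Matrix.diagonal_mul_diagonal, ← Matrix.diagonal_one]
      congr 1
      funext i
      rcases i with i | i
      · simp [SparseHDiag.hVal_inl]
      · rw [SparseHDiag.hVal_inr, SparseHDiag.hVal_inr, inv_zpow, mul_inv_cancel₀ (zpow_ne_zero _ ht)]
    have h2 : Matrix.diagonal (SparseHDiag.hVal chevG2 r t⁻¹) *
        Matrix.diagonal (SparseHDiag.hVal chevG2 r t) = 1 := by
      rw [Matrix.diagonal_mul_diagonal, ← Matrix.diagonal_one]
      congr 1
      funext i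
      rcases i with i | i
      · simp [SparseHDiag.hVal_inl]
      · rw [SparseHDiag.hVal_inr, SparseHDiag.hVal_inr, inv_zpow, inv_mul_cancel₀ (zpow_ne_zero _ ht)]
    exact ⟨⟨_, _, h1, h2⟩, rfl, Subgroup.subset_closure ⟨r, t, hr, ht, (HDiagG2.hMat_chevG2 hr ht).symm⟩⟩
  obtain ⟨g7, e7, m7⟩ := key 7 h7 _ hm7
  obtain ⟨g6, e6, m6⟩ := key 6 h6 _ hm6
  have : hU α β = g7 * g6 := by
    apply Units.ext
    rw [Units.val_mul, coe_hU, e7, e6, Matrix.diagonal_mul_diagonal, hMat]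
    congr 1
    funext i
    rcases i with i | s
    · simp [SparseHDiag.hVal_inl]
    · rw [SparseHDiag.hVal_inr, SparseHDiag.hVal_inr]
      obtain ⟨c7, c6⟩ := root_check s
      show (α : K) ^ rootA s.val * (β : K) ^ rootB s.val = _
      rw [c7, c6]
      generalize rootA s.val = A
      generalize rootB s.val = B
      have hα := α.ne_zero
      have hβ := β.ne_zero
      rw [mul_zpow, mul_zpow, ← zpow_natCast (α : K) 2, ← zpow_natCast (α : K) 3, ← zpow_natCast (β : K) 2,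
        ← zpow_mul, ← zpow_mul, ← zpow_mul]
      rw [show (α : K) ^ (((2 : ℕ) : ℤ) * (2 * A - 3 * B)) * (β : K) ^ (2 * A - 3 * B) *
          ((α : K) ^ (((3 : ℕ) : ℤ) * (-A + 2 * B)) * (β : K) ^ (((2 : ℕ) : ℤ) * (-A + 2 * B))) =
          ((α : K) ^ (((2 : ℕ) : ℤ) * (2 * A - 3 * B)) * (α : K) ^ (((3 : ℕ) : ℤ) * (-A + 2 * B))) *
          ((β : K) ^ (2 * A - 3 * B) * (β : K) ^ (((2 : ℕ) : ℤ) * (-A + 2 * B))) by ring]
      rw [← zpow_add₀ hα, ← zpow_add₀ hβ]
      congr 2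
      · push_cast; ring
      · push_cast; ring
  rw [this]
  exact mul_mem m7 m6

theorem tU_diag (α : Kˣ) : tU e α ∈ chevG2.diagonalSubgroup K := hU_mem _ _

/-- (L2) -/
theorem nU_mono (h : Theta K e) : nU K ∈ chevG2.monomialSubgroup K := by
  have h3 := h.three
  have hmem : ∀ (r : ℕ) (_ : r < 12), xU r (1 : K) * xU (chevG2.neg r) (-1) * xU r 1 ∈
      chevG2.monomialSubgroup K := by
    intro r hr
    refine Subgroup.mem_sup_right (Subgroup.subset_closure ⟨r, hr, ?_⟩)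
    rw [Units.val_mul, Units.val_mul, coe_xU, coe_xU, ChevalleyDatum.nMat, ChevalleyDatum.wordMat,
      ChevalleyDatum.nWord]
    simp only [List.map_cons, List.map_nil, List.prod_cons, List.prod_nil, mul_one, mul_assoc, inv_one]
  have c1 : X 8 (1 : K) * X 10 1 = X 10 1 * X 8 1 := X_comm h3 (p := (8, 10)) (by decide) 1 1
  have c2 : X 8 (1 : K) * X 1 (-1) = X 1 (-1) * X 8 1 := X_comm h3 (p := (8, 1)) (by decide) 1 (-1)
  have c3 : X 10 (1 : K) * X 3 (-1) = X 3 (-1) * X 10 1 := X_comm h3 (p := (10, 3)) (by decide) 1 (-1)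
  have key : nU K = (xU 8 (1 : K) * xU (chevG2.neg 8) (-1) * xU 8 1) *
      (xU 10 (1 : K) * xU (chevG2.neg 10) (-1) * xU 10 1) := by
    apply Units.ext
    rw [coe_nU, ← W_V_W h, W_0u0 h, V_0u0 h]
    simp only [Units.val_mul, coe_xU, one_pow]
    rw [show chevG2.neg 8 = 3 from rfl, show chevG2.neg 10 = 1 from rfl]
    calc X 8 (1 : K) * X 10 1 * (X 3 (-1) * X 1 (-1)) * (X 8 1 * X 10 1)
        = X 8 1 * (X 10 1 * X 3 (-1)) * (X 1 (-1) * X 8 1) * X 10 1 := by simp only [mul_assoc]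
      _ = X 8 1 * (X 3 (-1) * X 10 1) * (X 8 1 * X 1 (-1)) * X 10 1 := by rw [c3, c2]
      _ = X 8 1 * X 3 (-1) * (X 10 1 * X 8 1) * X 1 (-1) * X 10 1 := by simp only [mul_assoc]
      _ = X 8 1 * X 3 (-1) * (X 8 1 * X 10 1) * X 1 (-1) * X 10 1 := by rw [c1]
      _ = _ := by simp only [mul_assoc]
  rw [key]
  exact mul_mem (hmem 8 (by decide)) (hmem 10 (by decide))

theorem pos_check : ∀ r ∈ [7, 6, 8, 9, 10, 11], chevG2.IsPosRoot r := by decide

/-- (L3) -/
theorem wU_pos (t u v : K) : wU e t u v ∈ chevG2.posUnipotent K := by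
  have key : ∀ w : List (ℕ × K), (∀ p ∈ w, chevG2.IsPosRoot p.1) → wordU w ∈ chevG2.posUnipotent K := by
    intro w
    induction w with
    | nil => intro _; exact one_mem _
    | cons p w ih =>
      intro hw
      have : wordU (p :: w) = xU p.1 p.2 * wordU w := by
        unfold wordU; rw [List.map_cons, List.prod_cons]
      rw [this]
      exact mul_mem (Subgroup.subset_closure ⟨p.1, p.2, hw p List.mem_cons_self, rfl⟩)
        (ih fun q hq => hw q (List.mem_cons_of_mem _ hq))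
  refine key _ (fun p hp => ?_)
  have hfst : p.1 ∈ (reeWordU e t u v).map Prod.fst := List.mem_map_of_mem hp
  exact pos_check _ hfst

/-! ### Monomial elements -/

theorem inList : chevG2 ∈ [chevG2, chevB2, chevD4, chevF4, chevE6, chevE7, chevE8] := List.mem_cons_self

theorem isBM_of_mem {g : GL chevG2.Idx K} (hg : g ∈ chevG2.monomialSubgroup K) :
    IsBM (g : Matrix chevG2.Idx chevG2.Idx K) :=
  UnipMonomial.monomial_le_BM (NBlock.isBM_nMat inList K) (NBlock.isBM_diagonal inList) hg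

theorem S_inr : ∀ i : Fin 7, i ≠ 3 → ∃ s : Fin chevG2.nroots, S i = Sum.inr s := by
  intro i hi
  fin_cases i
  · exact ⟨_, rfl⟩
  · exact ⟨_, rfl⟩
  · exact ⟨_, rfl⟩
  · exact absurd rfl hi
  · exact ⟨_, rfl⟩
  · exact ⟨_, rfl⟩
  · exact ⟨_, rfl⟩

/-- a column of the block of a monomial element with non-zero first entry -/
theorem col_eq_zero {g : GL chevG2.Idx K} (hg : IsBM (g : Matrix chevG2.Idx chevG2.Idx K)) {j : Fin 7}
    (hj : j ≠ 3) (h0 : B g 0 j ≠ 0) (i : Fin 7) (hi : i ≠ 0) : B g i j = 0 := by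
  obtain ⟨s, hs⟩ := S_inr j hj
  obtain ⟨-, h2, h3⟩ := hg
  show (g : Matrix chevG2.Idx chevG2.Idx K) (S i) (S j) = 0
  have h0' : (g : Matrix chevG2.Idx chevG2.Idx K) (S 0) (S j) ≠ 0 := h0
  rw [hs] at h0' ⊢
  obtain ⟨s0, hs0⟩ := S_inr 0 (by decide)
  by_cases h : i = 3
  · subst h
    exact h2 _ s
  · obtain ⟨si, hsi⟩ := S_inr i h
    obtain ⟨s', hs'⟩ := h3 s
    rw [hs0] at h0'
    have e0 : s0 = s' := by
      by_contra hne
      exact h0' (hs' s0 hne)
    rw [hsi]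
    apply hs'
    rintro rfl
    apply hi
    apply S_injective
    rw [hsi, hs0, e0]

variable {θ : K →+* K} (c : Ctx θ e)
include c

theorem wU_eq_one {t u v : K} (h : ∀ i : Fin 7, i ≠ 0 → B (wU e t u v) i 0 = 0) : wU e t u v = 1 := by
  have h1 := h 1 (by decide)
  have h2 := h 2 (by decide)
  have h3 := h 3 (by decide)
  rw [c.B_10, neg_eq_zero] at h1
  have ht : t = 0 := by
    apply θ.injective; rw [h1, map_zero]
  rw [c.B_20, h1, zero_mul, zero_add] at h2
  have hu : u = 0 := by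
    apply θ.injective; rw [h2, map_zero]
  rw [c.B_30, h1, zero_mul, zero_sub, neg_eq_zero] at h3
  have hv : v = 0 := by
    apply θ.injective; rw [h3, map_zero]
  rw [ht, hu, hv, wU_zero c.theta]

/-- (L4) -/
theorem mono_small {t u v : K} {α : Kˣ} (h : wU e t u v * tU e α ∈ chevG2.monomialSubgroup K) :
    wU e t u v = 1 := by
  have h1 : wU e t u v ∈ chevG2.monomialSubgroup K := by
    have h2 : tU e α ∈ chevG2.monomialSubgroup K := Subgroup.mem_sup_left (tU_diag α)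
    have := mul_mem h (inv_mem h2)
    rwa [mul_inv_cancel_right] at this
  apply wU_eq_one c
  intro i hi
  refine col_eq_zero (isBM_of_mem h1) (by decide) ?_ i hi
  rw [c.B_diag]
  exact one_ne_zero

/-- (L5), first half -/
theorem mono_big_left {t u v : K} {α : Kˣ} {t' u' v' : K}
    (h : wU e t u v * tU e α * nU K * wU e t' u' v' ∈ chevG2.monomialSubgroup K) : wU e t u v = 1 := by
  apply wU_eq_one c
  intro i hi
  have h0 : B (wU e t u v * tU e α * nU K * wU e t' u' v') 0 6 ≠ 0 := by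
    rw [c.B_wtnw, c.B_diag, one_mul]
    exact neg_ne_zero.2 (inv_ne_zero (c.dd_ne α))
  have h1 := col_eq_zero (isBM_of_mem h) (by decide) h0 i hi
  rw [c.B_wtnw, neg_eq_zero] at h1
  exact (mul_eq_zero.1 h1).resolve_right (inv_ne_zero (c.dd_ne α))

/-- (L5) -/
theorem mono_big {t u v : K} {α : Kˣ} {t' u' v' : K}
    (h : wU e t u v * tU e α * nU K * wU e t' u' v' ∈ chevG2.monomialSubgroup K) :
    wU e t u v = 1 ∧ wU e t' u' v' = 1 := by
  have h1 := mono_big_left c h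
  refine ⟨h1, ?_⟩
  rw [h1, one_mul] at h
  have h2 := inv_mem h
  have e1 : (tU e α * nU K * wU e t' u' v')⁻¹ =
      wU e (-t') (-u' - t' * (t' ^ e) ^ 3) (-v' - u' * t' + t' ^ 2 * (t' ^ e) ^ 3) * tU e α * nU K * wU e 0 0 0 := by
    rw [wU_zero c.theta, mul_one, mul_inv_rev, mul_inv_rev, c.wU_inv, nU_inv, mul_assoc _ (tU e α) (nU K)]
    congr 1
    have e2 : (tU e α)⁻¹ = tU e α⁻¹ := by
      rw [inv_eq_iff_mul_eq_one, tU_mul, mul_inv_cancel, tU_one]
    rw [e2, Blocks.nU_tU, inv_inv]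
  rw [e1] at h2
  have h3 := mono_big_left c h2
  rw [← c.wU_inv, inv_eq_one] at h3
  exact h3

/-! ### The (B,N)-pair -/

omit c in
theorem nU_not_mem_borel : nU K ∉ chevG2.borelSubgroup K := by
  intro h
  have h1 := (isLT_of_mem_borel h).tri (S 0) (S 6)
  have h2 : ((nU K : GL chevG2.Idx K) : Matrix chevG2.Idx chevG2.Idx K) (S 0) (S 6) ≠ 0 := by
    have : ((nU K : GL chevG2.Idx K) : Matrix chevG2.Idx chevG2.Idx K) (S 0) (S 6) = -1 := by
      rw [coe_nU, Blocks.rev_S]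
      rfl
    rw [this]
    exact neg_ne_zero.2 one_ne_zero
  rcases h1 h2 with h3 | h3
  · exact absurd (S_injective h3) (by decide)
  · exact absurd h3 (by decide)

omit c in
theorem small_mem_borel (t u v : K) (α : Kˣ) : wU e t u v * tU e α ∈ chevG2.borelSubgroup K :=
  mul_mem (Subgroup.mem_sup_left (wU_pos t u v)) (Subgroup.mem_sup_right (tU_diag α))

omit c in
theorem big_not_mem_borel (t u v : K) (α : Kˣ) (t' u' v' : K) :
    wU e t u v * tU e α * nU K * wU e t' u' v' ∉ chevG2.borelSubgroup K := by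
  intro h
  apply nU_not_mem_borel (K := K)
  have h1 := small_mem_borel (e := e) t u v α
  have h2 : wU e t' u' v' ∈ chevG2.borelSubgroup K := Subgroup.mem_sup_left (wU_pos t' u' v')
  have h3 := mul_mem (mul_mem (inv_mem h1) h) (inv_mem h2)
  have : (wU e t u v * tU e α)⁻¹ * (wU e t u v * tU e α * nU K * wU e t' u' v') * (wU e t' u' v')⁻¹ = nU K := by
    group
  rwa [this] at h3

theorem conj_not_mem_borel : nU K * wU e 0 0 1 * nU K ∉ chevG2.borelSubgroup K := by
  intro h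
  have h1 := (isLT_of_mem_borel h).tri (S 3) (S 6)
  have h2 : ((nU K * wU e 0 0 1 * nU K : GL chevG2.Idx K) : Matrix chevG2.Idx chevG2.Idx K) (S 3) (S 6) ≠ 0 := by
    have e1 : B (nU K * wU e (0 : K) 0 1 * nU K) 3 6 = -1 := by
      rw [c.B_mul_n, c.B_n_mul (wU_mem _ _ _ _)]
      show - - B (wU e (0 : K) 0 1) 3 0 = -1
      rw [c.B_30, map_zero, map_one]
      ring
    have e2 : B (nU K * wU e (0 : K) 0 1 * nU K) 3 6 =
      ((nU K * wU e 0 0 1 * nU K : GL chevG2.Idx K) : Matrix chevG2.Idx chevG2.Idx K) (S 3) (S 6) := rfl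
    rw [← e2, e1]
    exact neg_ne_zero.2 one_ne_zero
  rcases h1 h2 with h3 | h3
  · exact absurd (S_injective h3) (by decide)
  · exact absurd h3 (by decide)

theorem exists_bnPair :
    ∃ P : BNPair ↥(twistedG2 K e),
      P.B = (chevG2.borelSubgroup K ⊓ twistedG2 K e).subgroupOf (twistedG2 K e) ∧
      P.N = (chevG2.monomialSubgroup K ⊓ twistedG2 K e).subgroupOf (twistedG2 K e) := by
  have hBm : ∀ g : ↥(twistedG2 K e), g ∈ (chevG2.borelSubgroup K ⊓ twistedG2 K e).subgroupOf (twistedG2 K e) ↔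
      (g : GL chevG2.Idx K) ∈ chevG2.borelSubgroup K := fun g => by
    rw [Subgroup.mem_subgroupOf, Subgroup.mem_inf]
    exact ⟨fun h => h.1, fun h => ⟨h, g.2⟩⟩
  have hNm : ∀ g : ↥(twistedG2 K e), g ∈ (chevG2.monomialSubgroup K ⊓ twistedG2 K e).subgroupOf (twistedG2 K e) ↔
      (g : GL chevG2.Idx K) ∈ chevG2.monomialSubgroup K := fun g => by
    rw [Subgroup.mem_subgroupOf, Subgroup.mem_inf]
    exact ⟨fun h => h.1, fun h => ⟨h, g.2⟩⟩
  have htor : ∀ t : ↥(twistedG2 K e), (t : GL chevG2.Idx K) ∈ chevG2.borelSubgroup K →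
      (t : GL chevG2.Idx K) ∈ chevG2.monomialSubgroup K → ∃ α : Kˣ, (t : GL chevG2.Idx K) = tU e α := by
    intro t h1 h2
    rcases c.bruhat t.2 with ⟨x, y, z, α, h⟩ | ⟨x, y, z, α, x', y', z', h⟩
    · refine ⟨α, ?_⟩
      rw [h] at h2 ⊢
      rw [mono_small c h2, one_mul]
    · rw [h] at h1
      exact absurd h1 (big_not_mem_borel _ _ _ _ _ _ _)
  refine RankOneBN.exists_bnPair _ _ ⟨nU K, c.nU_mem⟩ ?_ ?_ ?_ ?_ ?_ ?_ ?_
  · rw [hNm]; exact nU_mono c.theta
  · rw [hBm]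
    show nU K * nU K ∈ _
    rw [nU_mul_self]; exact one_mem _
  · rw [hBm]; exact nU_not_mem_borel
  · intro g
    rcases c.bruhat g.2 with ⟨x, y, z, α, h⟩ | ⟨x, y, z, α, x', y', z', h⟩
    · left
      rw [hBm, h]
      exact small_mem_borel _ _ _ _
    · right
      refine ⟨⟨wU e x y z * tU e α, mul_mem (wU_mem _ _ _ _) (c.torus α)⟩, ?_,
        ⟨wU e x' y' z', wU_mem _ _ _ _⟩, ?_, Subtype.ext h⟩
      · rw [hBm]; exact small_mem_borel _ _ _ _
      · rw [hBm]; exact Subgroup.mem_sup_left (wU_pos _ _ _)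
  · intro g hg
    rw [hNm] at hg
    rcases c.bruhat g.2 with ⟨x, y, z, α, h⟩ | ⟨x, y, z, α, x', y', z', h⟩
    · left
      rw [hBm, h]
      exact small_mem_borel _ _ _ _
    · right
      rw [h] at hg
      obtain ⟨h1, h2⟩ := mono_big c hg
      refine ⟨⟨tU e α, c.torus α⟩, ?_, Subtype.ext ?_⟩
      · rw [Subgroup.mem_inf, hBm, hNm]
        exact ⟨Subgroup.mem_sup_right (tU_diag α), Subgroup.mem_sup_left (tU_diag α)⟩
      · rw [h, h1, h2, one_mul, mul_one]
        rfl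
  · intro t ht
    rw [Subgroup.mem_inf, hBm, hNm] at ht
    obtain ⟨α, hα⟩ := htor t ht.1 ht.2
    rw [hBm]
    show nU K * (t : GL chevG2.Idx K) * (nU K)⁻¹ ∈ _
    rw [hα, Blocks.nU_tU, mul_inv_cancel_right]
    exact Subgroup.mem_sup_right (tU_diag _)
  · refine ⟨⟨wU e 0 0 1, wU_mem _ _ _ _⟩, ?_, ?_⟩
    · rw [hBm]; exact Subgroup.mem_sup_left (wU_pos _ _ _)
    · rw [hBm]; exact conj_not_mem_borel c

end Cfsg.Agent.ChevalleyStructure.Ree.BN
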