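import Mathlib
import Cfsg.Prelude.Def_ChevG2
import Cfsg.Prelude.Def_ChevStructure

/-!
# A small reflective checker for identities between words in root elements of type G₂

Laurent polynomials with integer coefficients (modulo `p`) in two invertible and two arbitrary parameters;
sparse 14 × 14 matrices of such polynomials; `check` decides equality of two products of sparse matrices,
`check_sound` turns it into an identity over every field with `(p : K) = 0`.
-/

set_option autoImplicit false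

namespace Cfsg.Agent.ChevalleyStructure.Ree.Calc

open Cfsg.Lie

/-- monomials `α^a β^b s^i t^j`, `α β` invertible. -/
abbrev Mon := ℤ × ℤ × ℕ × ℕ

/-- polynomials -/
abbrev Pol := List (Mon × ℤ)

section Eval

variable {K : Type*} [Field K]

/-- valuation: two units and two arbitrary elements -/
structure Val (K : Type*) [Field K] where
  a : K
  b : K
  s : K
  t : K
  ha : a ≠ 0
  hb : b ≠ 0

def Mon.mul (m n : Mon) : Mon := (m.1 + n.1, m.2.1 + n.2.1, m.2.2.1 + n.2.2.1, m.2.2.2 + n.2.2.2)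

def Mon.eval (v : Val K) (m : Mon) : K := v.a ^ m.1 * v.b ^ m.2.1 * v.s ^ m.2.2.1 * v.t ^ m.2.2.2

theorem Mon.eval_mul (v : Val K) (m n : Mon) : (Mon.mul m n).eval v = Mon.eval v m * Mon.eval v n := by
  simp only [Mon.mul, Mon.eval, zpow_add₀ v.ha, zpow_add₀ v.hb, pow_add]
  ring

def Pol.eval (v : Val K) : Pol → K
  | [] => 0
  | (m, c) :: p => (c : K) * Mon.eval v m + Pol.eval v p

theorem Pol.eval_nil (v : Val K) : Pol.eval v [] = 0 := rfl

theorem Pol.eval_cons (v : Val K) (m : Mon) (c : ℤ) (p : Pol) :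
    Pol.eval v ((m, c) :: p) = (c : K) * Mon.eval v m + Pol.eval v p := rfl

/-- add the term `c m` to a polynomial, coefficients modulo `n`. -/
def Pol.ins (n : ℕ) (m : Mon) (c : ℤ) : Pol → Pol
  | [] => if c % (n : ℤ) = 0 then [] else [(m, c % (n : ℤ))]
  | (m', c') :: p =>
    if m' = m then (if (c + c') % (n : ℤ) = 0 then p else (m, (c + c') % (n : ℤ)) :: p)
    else (m', c') :: Pol.ins n m c p

theorem cast_emod {n : ℕ} (hn : (n : K) = 0) (c : ℤ) : ((c % (n : ℤ) : ℤ) : K) = (c : K) := by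
  have h := Int.emod_add_mul_ediv c (n : ℤ)
  have h2 : (((c % (n : ℤ) + (n : ℤ) * (c / (n : ℤ)) : ℤ)) : K) = (c : K) := by rw [h]
  rw [← h2]
  push_cast
  rw [hn]
  ring

theorem Pol.eval_ins {n : ℕ} (hn : (n : K) = 0) (v : Val K) (m : Mon) (c : ℤ) (p : Pol) :
    Pol.eval v (Pol.ins n m c p) = (c : K) * Mon.eval v m + Pol.eval v p := by
  induction p with
  | nil =>
    unfold Pol.ins
    split_ifs with h
    · have := cast_emod hn c
      rw [h] at this
      rw [Pol.eval_nil, ← this]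
      simp
    · rw [Pol.eval_cons, cast_emod hn]
  | cons x p ih =>
    obtain ⟨m', c'⟩ := x
    unfold Pol.ins
    split_ifs with h1 h2
    · subst h1
      have := cast_emod hn (c + c')
      rw [h2] at this
      have h3 : (c : K) + (c' : K) = 0 := by
        rw [← Int.cast_add, ← this]; simp
      rw [Pol.eval_cons, ← add_assoc, ← add_mul, h3]
      ring
    · subst h1
      rw [Pol.eval_cons, Pol.eval_cons, cast_emod hn]
      push_cast
      ring
    · rw [Pol.eval_cons, Pol.eval_cons, ih]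
      ring

/-- add `c m * q` to `p`. -/
def Pol.addMul (n : ℕ) (m : Mon) (c : ℤ) (q p : Pol) : Pol :=
  q.foldl (fun acc x => Pol.ins n (Mon.mul m x.1) (c * x.2) acc) p

theorem Pol.eval_addMul {n : ℕ} (hn : (n : K) = 0) (v : Val K) (m : Mon) (c : ℤ) (q p : Pol) :
    Pol.eval v (Pol.addMul n m c q p) = (c : K) * Mon.eval v m * Pol.eval v q + Pol.eval v p := by
  unfold Pol.addMul
  induction q generalizing p with
  | nil => simp [Pol.eval]
  | cons x q ih =>
    rw [List.foldl_cons, ih, Pol.eval_ins hn, Pol.eval_cons, Mon.eval_mul]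
    push_cast
    ring

/-- `p + r * q`. -/
def Pol.mulAdd (n : ℕ) (r q p : Pol) : Pol := r.foldl (fun acc x => Pol.addMul n x.1 x.2 q acc) p

theorem Pol.eval_mulAdd {n : ℕ} (hn : (n : K) = 0) (v : Val K) (r q p : Pol) :
    Pol.eval v (Pol.mulAdd n r q p) = Pol.eval v r * Pol.eval v q + Pol.eval v p := by
  unfold Pol.mulAdd
  induction r generalizing p with
  | nil => simp [Pol.eval]
  | cons x r ih =>
    rw [List.foldl_cons, ih, Pol.eval_addMul hn, Pol.eval_cons]
    ring

def one : Pol := [((0, 0, 0, 0), 1)]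

theorem eval_one (v : Val K) : Pol.eval v one = 1 := by
  simp [one, Pol.eval, Mon.eval]

/-- power of a polynomial -/
def Pol.pow (n : ℕ) (p : Pol) : ℕ → Pol
  | 0 => one
  | k + 1 => Pol.mulAdd n p (Pol.pow n p k) []

theorem Pol.eval_pow {n : ℕ} (hn : (n : K) = 0) (v : Val K) (p : Pol) (k : ℕ) :
    Pol.eval v (Pol.pow n p k) = Pol.eval v p ^ k := by
  induction k with
  | zero => simp [Pol.pow, eval_one]
  | succ k ih => rw [Pol.pow, Pol.eval_mulAdd hn, ih, Pol.eval_nil]; ring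

end Eval

/-! ### vectors and sparse matrices -/

/-- sparse rows -/
abbrev SMat := List (List (ℕ × Pol))

section Mats

variable {K : Type*} [Field K]

/-- position of a basis vector in the dense lists -/
def pos : chevG2.Idx → ℕ
  | Sum.inl i => i.val
  | Sum.inr s => 2 + s.val

theorem pos_lt (i : chevG2.Idx) : pos i < 14 := by
  rcases i with i | i
  · have := i.isLt
    show i.val < 14
    exact lt_of_lt_of_le this (by decide)
  · have : i.val < 12 := i.isLt
    show 2 + i.val < 14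
    omega

def idx (k : ℕ) : chevG2.Idx :=
  if h : k < 2 then Sum.inl ⟨k, h⟩ else if h' : k - 2 < 12 then Sum.inr ⟨k - 2, h'⟩ else Sum.inl ⟨0, by decide⟩

theorem idx_pos (i : chevG2.Idx) : idx (pos i) = i := by
  rcases i with i | i
  · have : i.val < 2 := i.isLt
    simp [idx, pos, this]
  · have h : i.val < 12 := i.isLt
    have h2 : ¬ (2 + i.val < 2) := by omega
    have h3 : 2 + i.val - 2 < 12 := by omega
    show (if h : 2 + i.val < 2 then Sum.inl ⟨2 + i.val, h⟩ else if h' : 2 + i.val - 2 < 12 then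
      Sum.inr ⟨2 + i.val - 2, h'⟩ else Sum.inl ⟨0, by decide⟩ : chevG2.Idx) = Sum.inr i
    rw [dif_neg h2, dif_pos h3]
    congr 1
    exact Fin.ext (by show 2 + i.val - 2 = i.val; omega)

def evalVec (v : Val K) (x : List Pol) : chevG2.Idx → K := fun i => Pol.eval v (x.getD (pos i) [])

/-- Evaluate a sparse row as a linear form. -/
def rowEval (v : Val K) (row : List (ℕ × Pol)) (w : ℕ → K) : K :=
  (row.map fun e => Pol.eval v e.2 * w e.1).sum

def rowAct (n : ℕ) (row : List (ℕ × Pol)) (x : List Pol) : Pol :=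
  row.foldl (fun acc e => Pol.mulAdd n e.2 (x.getD e.1 []) acc) []

theorem foldl_rowAct {n : ℕ} (hn : (n : K) = 0) (v : Val K) (row : List (ℕ × Pol)) (x : List Pol) (p : Pol) :
    Pol.eval v (row.foldl (fun acc e => Pol.mulAdd n e.2 (x.getD e.1 []) acc) p) =
      rowEval v row (fun j => Pol.eval v (x.getD j [])) + Pol.eval v p := by
  unfold rowEval
  induction row generalizing p with
  | nil => simp
  | cons e row ih =>
    rw [List.foldl_cons, ih, Pol.eval_mulAdd hn, List.map_cons, List.sum_cons]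
    ring

theorem eval_rowAct {n : ℕ} (hn : (n : K) = 0) (v : Val K) (row : List (ℕ × Pol)) (x : List Pol) :
    Pol.eval v (rowAct n row x) = rowEval v row (fun j => Pol.eval v (x.getD j [])) := by
  unfold rowAct
  rw [foldl_rowAct hn, Pol.eval_nil, add_zero]

/-- A sparse matrix applied to a vector. -/
def act (n : ℕ) (A : SMat) (x : List Pol) : List Pol := A.map fun row => rowAct n row x

/-- all column indices in range -/
def SMat.ok (A : SMat) : Bool := A.all fun row => row.all fun e => Nat.blt e.1 14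

/-- the matrix of a sparse matrix -/
def toMat (v : Val K) (A : SMat) : Matrix chevG2.Idx chevG2.Idx K :=
  Matrix.of fun i j => rowEval v (A.getD (pos i) []) (fun k => if k = pos j then 1 else 0)

theorem rowEval_eq_sum (v : Val K) (row : List (ℕ × Pol)) (h : row.all (fun e => Nat.blt e.1 14) = true)
    (w : ℕ → K) :
    rowEval v row w = ∑ j : chevG2.Idx, rowEval v row (fun k => if k = pos j then 1 else 0) * w (pos j) := by
  unfold rowEval
  induction row with
  | nil => simp
  | cons e row ih =>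
    rw [List.all_cons, Bool.and_eq_true] at h
    obtain ⟨h1, h2⟩ := h
    have h1' : e.1 < 14 := by
      simpa [Nat.blt_eq] using h1
    simp only [List.map_cons, List.sum_cons]
    rw [ih h2, ← sub_eq_zero]
    have key : ∑ j : chevG2.Idx, (Pol.eval v e.2 * (if e.1 = pos j then (1 : K) else 0)) * w (pos j) =
        Pol.eval v e.2 * w e.1 := by
      rw [Finset.sum_eq_single (idx e.1)]
      · have : pos (idx e.1) = e.1 := by
          unfold idx
          split_ifs with ha hb
          · rfl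
          · show 2 + (e.1 - 2) = e.1
            omega
          · omega
        rw [this, if_pos rfl, mul_one]
      · intro b _ hb
        rw [if_neg, mul_zero, zero_mul]
        intro h
        apply hb
        rw [h, idx_pos]
      · intro h
        exact absurd (Finset.mem_univ _) h
    simp only [add_mul, Finset.sum_add_distrib]
    rw [key]
    ring

theorem eval_act {n : ℕ} (hn : (n : K) = 0) (v : Val K) (A : SMat) (hA : A.ok = true) (x : List Pol) :
    evalVec v (act n A x) = (toMat v A).mulVec (evalVec v x) := by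
  funext i
  have h1 : (act n A x).getD (pos i) [] = rowAct n (A.getD (pos i) []) x := by
    unfold act
    rw [List.getD_eq_getElem?_getD, List.getD_eq_getElem?_getD, List.getElem?_map]
    cases h : A[pos i]? with
    | none => simp [rowAct]
    | some r => simp
  have h2 : (A.getD (pos i) []).all (fun e => Nat.blt e.1 14) = true := by
    unfold SMat.ok at hA
    rw [List.getD_eq_getElem?_getD]
    cases h : A[pos i]? with
    | none => simp
    | some r =>
      rw [List.all_eq_true] at hA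
      exact hA r (List.mem_of_getElem? h)
  show Pol.eval v ((act n A x).getD (pos i) []) = _
  rw [h1, eval_rowAct hn, rowEval_eq_sum v _ h2]
  rfl

/-- product of sparse matrices applied to a vector -/
def wordAct (n : ℕ) (w : List SMat) (x : List Pol) : List Pol := w.foldr (act n) x

theorem eval_wordAct {n : ℕ} (hn : (n : K) = 0) (v : Val K) (w : List SMat) (hw : ∀ A ∈ w, A.ok = true)
    (x : List Pol) :
    evalVec v (wordAct n w x) = ((w.map (toMat v)).prod).mulVec (evalVec v x) := by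
  induction w with
  | nil => simp [wordAct]
  | cons A w ih =>
    have : wordAct n (A :: w) x = act n A (wordAct n w x) := rfl
    rw [this, eval_act hn v A (hw A (by simp)), ih (fun B hB => hw B (by simp [hB])), List.map_cons,
      List.prod_cons, Matrix.mulVec_mulVec]

/-- basis vector -/
def basisVec (j : ℕ) : List Pol := (List.range 14).map fun i => if Nat.beq i j then one else []

theorem evalVec_basis (v : Val K) (j : chevG2.Idx) : evalVec v (basisVec (pos j)) = Pi.single j 1 := by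
  funext i
  unfold evalVec basisVec
  rw [List.getD_eq_getElem?_getD, List.getElem?_map, List.getElem?_range (pos_lt i)]
  by_cases h : i = j
  · subst h
    simp [eval_one]
  · have : ¬ pos i = pos j := fun h' => h (by rw [← idx_pos i, h', idx_pos])
    simp [this, h, Pol.eval]

/-- `p - q = 0`: normal form of the difference is empty. -/
def polEq (n : ℕ) (p q : Pol) : Bool := (Pol.addMul n (0, 0, 0, 0) (-1) q (Pol.mulAdd n p one [])).isEmpty

theorem polEq_sound {n : ℕ} (hn : (n : K) = 0) (v : Val K) (p q : Pol) (h : polEq n p q = true) :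
    Pol.eval v p = Pol.eval v q := by
  unfold polEq at h
  rw [List.isEmpty_iff] at h
  have := congrArg (Pol.eval v) h
  rw [Pol.eval_addMul hn, Pol.eval_mulAdd hn, eval_one, Pol.eval_nil] at this
  have hm : Mon.eval v (0, 0, 0, 0) = 1 := by simp [Mon.eval]
  rw [hm] at this
  push_cast at this
  linear_combination this

def vecEq (n : ℕ) (x y : List Pol) : Bool := (List.range 14).all fun i => polEq n (x.getD i []) (y.getD i [])

theorem vecEq_sound {n : ℕ} (hn : (n : K) = 0) (v : Val K) (x y : List Pol) (h : vecEq n x y = true) :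
    evalVec v x = evalVec v y := by
  funext i
  unfold vecEq at h
  rw [List.all_eq_true] at h
  exact polEq_sound hn v _ _ (h (pos i) (List.mem_range.2 (pos_lt i)))

/-- equality of two products of sparse matrices -/
def check (n : ℕ) (w₁ w₂ : List SMat) : Bool :=
  (w₁.all SMat.ok && w₂.all SMat.ok) &&
    (List.range 14).all fun j => vecEq n (wordAct n w₁ (basisVec j)) (wordAct n w₂ (basisVec j))

theorem check_sound {n : ℕ} (hn : (n : K) = 0) (v : Val K) (w₁ w₂ : List SMat) (h : check n w₁ w₂ = true) :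
    (w₁.map (toMat v)).prod = (w₂.map (toMat v)).prod := by
  unfold check at h
  rw [Bool.and_eq_true, Bool.and_eq_true, List.all_eq_true, List.all_eq_true, List.all_eq_true] at h
  obtain ⟨⟨h1, h2⟩, h3⟩ := h
  have hcol : ∀ j : chevG2.Idx, ((w₁.map (toMat v)).prod).mulVec (Pi.single j 1) =
      ((w₂.map (toMat v)).prod).mulVec (Pi.single j 1) := by
    intro j
    rw [← evalVec_basis v j, ← eval_wordAct hn v w₁ h1, ← eval_wordAct hn v w₂ h2]
    exact vecEq_sound hn v _ _ (h3 (pos j) (List.mem_range.2 (pos_lt j)))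
  ext i j
  have := congrFun (hcol j) i
  simpa using this

end Mats

/-! ### root elements as sparse matrices -/

/-- the entry of `x_r(t)` as a list of (coefficient, degree) -/
def entry (D : ChevalleyDatum) (r : ℕ) (row col : ℕ ⊕ ℕ) : List (ℤ × ℕ) :=
  match col with
  | Sum.inl i =>
    (match row with
     | Sum.inl i' => if i' = i then [(1, 0)] else []
     | Sum.inr u => if u = r then [(-((D.cartanSR.getD i #[]).getD r 0), 1)] else [])
  | Sum.inr s =>
    if s = r then (match row with | Sum.inr u => if u = r then [(1, 0)] else [] | Sum.inl _ => [])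
    else if s = D.negIdx.getD r 0 then
      (match row with
       | Sum.inl i => [((D.coroot.getD r #[]).getD i 0, 1)]
       | Sum.inr u => if u = s then [(1, 0)] else if u = r then [(-1, 2)] else [])
    else
      (match row with
       | Sum.inl _ => []
       | Sum.inr u => (if u = s then [(1, 0)] else []) ++ (D.chainCoeff r s u).map fun km => (km.2, km.1))

def natIdx {m n : ℕ} : Fin m ⊕ Fin n → ℕ ⊕ ℕ
  | Sum.inl i => Sum.inl i.val
  | Sum.inr s => Sum.inr s.val

theorem xMat_eq_entry {K : Type*} [Field K] (D : ChevalleyDatum) (r : Fin D.nroots) (t : K) (i j : D.Idx) :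
    D.xMat K r t i j = ((entry D r.val (natIdx i) (natIdx j)).map fun e => (e.1 : K) * t ^ e.2).sum := by
  unfold ChevalleyDatum.xMat entry
  rcases j with j | s
  · rcases i with i | u
    · simp only [Matrix.of_apply, natIdx, Fin.val_inj]
      split_ifs <;> simp
    · simp only [Matrix.of_apply, natIdx, Fin.val_inj]
      split_ifs <;> simp
  · rcases i with i | u
    · simp only [Matrix.of_apply, natIdx, Fin.val_inj]
      split_ifs <;> simp
    · simp only [Matrix.of_apply, natIdx, Fin.val_inj]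
      split_ifs <;> simp [Function.comp_def]

/-- the literal table of sparse rows: for each root `r` and each row the triples (column, coefficient, degree) -/
def tab : List (List (List (ℕ × ℤ × ℕ))) := [
  [[(0, 1, 0), (13, -1, 1)],
   [(1, 1, 0), (13, -2, 1)],
   [(1, 1, 1), (2, 1, 0), (13, -1, 2)],
   [(3, 1, 0), (8, 1, 1)],
   [(4, 1, 0), (10, 1, 1)],
   [(5, 1, 0), (11, -1, 1)],
   [(6, 1, 0)],
   [(7, 1, 0), (12, -1, 1)],
   [(8, 1, 0)],
   [(9, 1, 0)],
   [(10, 1, 0)],
   [(11, 1, 0)],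
   [(12, 1, 0)],
   [(13, 1, 0)]],
  [[(0, 1, 0), (12, -1, 1)],
   [(1, 1, 0), (12, -1, 1)],
   [(2, 1, 0), (7, 1, 1)],
   [(0, 3, 1), (1, -1, 1), (3, 1, 0), (12, -1, 2)],
   [(4, 1, 0), (9, 1, 1)],
   [(5, 1, 0)],
   [(6, 1, 0), (11, -1, 1)],
   [(7, 1, 0)],
   [(8, 1, 0), (13, -1, 1)],
   [(9, 1, 0)],
   [(10, 1, 0)],
   [(11, 1, 0)],
   [(12, 1, 0)],
   [(13, 1, 0)]],
  [[(0, 1, 0), (11, -2, 1)],
   [(1, 1, 0), (11, -3, 1)],
   [(2, 1, 0), (5, 3, 1), (9, -3, 2), (12, 1, 3)],
   [(3, 1, 0), (6, 3, 1), (10, 3, 2), (13, -1, 3)],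
   [(0, 1, 1), (4, 1, 0), (11, -1, 2)],
   [(5, 1, 0), (9, -2, 1), (12, 1, 2)],
   [(6, 1, 0), (10, 2, 1), (13, -1, 2)],
   [(7, 1, 0)],
   [(8, 1, 0)],
   [(9, 1, 0), (12, -1, 1)],
   [(10, 1, 0), (13, -1, 1)],
   [(11, 1, 0)],
   [(12, 1, 0)],
   [(13, 1, 0)]],
  [[(0, 1, 0), (10, -1, 1)],
   [(1, 1, 0), (10, -3, 1)],
   [(2, 1, 0), (4, -3, 1), (6, 3, 2), (8, 1, 3)],
   [(3, 1, 0)],
   [(4, 1, 0), (6, -2, 1), (8, -1, 2)],
   [(0, -1, 1), (1, 1, 1), (5, 1, 0), (10, -1, 2)],
   [(6, 1, 0), (8, 1, 1)],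
   [(7, 1, 0), (9, -3, 1), (11, -3, 2), (13, -1, 3)],
   [(8, 1, 0)],
   [(9, 1, 0), (11, 2, 1), (13, 1, 2)],
   [(10, 1, 0)],
   [(11, 1, 0), (13, 1, 1)],
   [(12, 1, 0)],
   [(13, 1, 0)]],
  [[(0, 1, 0), (9, -1, 1)],
   [(1, 1, 0)],
   [(2, 1, 0)],
   [(3, 1, 0), (4, -3, 1), (5, -3, 2), (7, -1, 3)],
   [(4, 1, 0), (5, 2, 1), (7, 1, 2)],
   [(5, 1, 0), (7, 1, 1)],
   [(0, 2, 1), (1, -1, 1), (6, 1, 0), (9, -1, 2)],
   [(7, 1, 0)],
   [(8, 1, 0), (10, -3, 1), (11, 3, 2), (12, 1, 3)],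
   [(9, 1, 0)],
   [(10, 1, 0), (11, -2, 1), (12, -1, 2)],
   [(11, 1, 0), (12, 1, 1)],
   [(12, 1, 0)],
   [(13, 1, 0)]],
  [[(0, 1, 0)],
   [(1, 1, 0), (8, -1, 1)],
   [(2, 1, 0), (3, -1, 1)],
   [(3, 1, 0)],
   [(4, 1, 0)],
   [(5, 1, 0), (6, -1, 1)],
   [(6, 1, 0)],
   [(0, -3, 1), (1, 2, 1), (7, 1, 0), (8, -1, 2)],
   [(8, 1, 0)],
   [(9, 1, 0), (10, 1, 1)],
   [(10, 1, 0)],
   [(11, 1, 0)],
   [(12, 1, 0), (13, 1, 1)],
   [(13, 1, 0)]],
  [[(0, 1, 0)],
   [(1, 1, 0), (7, 1, 1)],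
   [(2, 1, 0)],
   [(2, -1, 1), (3, 1, 0)],
   [(4, 1, 0)],
   [(5, 1, 0)],
   [(5, -1, 1), (6, 1, 0)],
   [(7, 1, 0)],
   [(0, 3, 1), (1, -2, 1), (7, -1, 2), (8, 1, 0)],
   [(9, 1, 0)],
   [(9, 1, 1), (10, 1, 0)],
   [(11, 1, 0)],
   [(12, 1, 0)],
   [(12, 1, 1), (13, 1, 0)]],
  [[(0, 1, 0), (6, 1, 1)],
   [(1, 1, 0)],
   [(2, 1, 0)],
   [(3, 1, 0)],
   [(3, -1, 1), (4, 1, 0)],
   [(3, -1, 2), (4, 2, 1), (5, 1, 0)],
   [(6, 1, 0)],
   [(3, -1, 3), (4, 3, 2), (5, 3, 1), (7, 1, 0)],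
   [(8, 1, 0)],
   [(0, -2, 1), (1, 1, 1), (6, -1, 2), (9, 1, 0)],
   [(8, -1, 1), (10, 1, 0)],
   [(8, 1, 2), (10, -2, 1), (11, 1, 0)],
   [(8, 1, 3), (10, -3, 2), (11, 3, 1), (12, 1, 0)],
   [(13, 1, 0)]],
  [[(0, 1, 0), (5, 1, 1)],
   [(1, 1, 0), (5, 3, 1)],
   [(2, 1, 0)],
   [(3, 1, 0)],
   [(2, -1, 1), (4, 1, 0)],
   [(5, 1, 0)],
   [(2, 1, 2), (4, -2, 1), (6, 1, 0)],
   [(7, 1, 0)],
   [(2, 1, 3), (4, -3, 2), (6, 3, 1), (8, 1, 0)],
   [(7, -1, 1), (9, 1, 0)],
   [(0, 1, 1), (1, -1, 1), (5, -1, 2), (10, 1, 0)],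
   [(7, -1, 2), (9, 2, 1), (11, 1, 0)],
   [(12, 1, 0)],
   [(7, -1, 3), (9, 3, 2), (11, 3, 1), (13, 1, 0)]],
  [[(0, 1, 0), (4, 2, 1)],
   [(1, 1, 0), (4, 3, 1)],
   [(2, 1, 0)],
   [(3, 1, 0)],
   [(4, 1, 0)],
   [(2, 1, 1), (5, 1, 0)],
   [(3, 1, 1), (6, 1, 0)],
   [(7, 1, 0)],
   [(8, 1, 0)],
   [(2, -1, 2), (5, -2, 1), (9, 1, 0)],
   [(3, 1, 2), (6, 2, 1), (10, 1, 0)],
   [(0, -1, 1), (4, -1, 2), (11, 1, 0)],
   [(2, 1, 3), (5, 3, 2), (9, -3, 1), (12, 1, 0)],
   [(3, -1, 3), (6, -3, 2), (10, -3, 1), (13, 1, 0)]],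
  [[(0, 1, 0), (3, 1, 1)],
   [(1, 1, 0), (3, 1, 1)],
   [(2, 1, 0)],
   [(3, 1, 0)],
   [(4, 1, 0)],
   [(5, 1, 0)],
   [(6, 1, 0)],
   [(2, 1, 1), (7, 1, 0)],
   [(8, 1, 0)],
   [(4, 1, 1), (9, 1, 0)],
   [(10, 1, 0)],
   [(6, -1, 1), (11, 1, 0)],
   [(0, -3, 1), (1, 1, 1), (3, -1, 2), (12, 1, 0)],
   [(8, -1, 1), (13, 1, 0)]],
  [[(0, 1, 0), (2, 1, 1)],
   [(1, 1, 0), (2, 2, 1)],
   [(2, 1, 0)],
   [(3, 1, 0)],
   [(4, 1, 0)],
   [(5, 1, 0)],
   [(6, 1, 0)],
   [(7, 1, 0)],
   [(3, 1, 1), (8, 1, 0)],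
   [(9, 1, 0)],
   [(4, 1, 1), (10, 1, 0)],
   [(5, -1, 1), (11, 1, 0)],
   [(7, -1, 1), (12, 1, 0)],
   [(1, -1, 1), (2, -1, 2), (13, 1, 0)]]]

def nidx (k : ℕ) : ℕ ⊕ ℕ := if k < 2 then Sum.inl k else Sum.inr (k - 2)

theorem nidx_pos (i : chevG2.Idx) : nidx (pos i) = natIdx i := by
  rcases i with i | i
  · have : i.val < 2 := i.isLt
    simp [nidx, pos, natIdx, this]
  · have h2 : ¬ (2 + i.val < 2) := by omega
    show (if 2 + i.val < 2 then Sum.inl (2 + i.val) else Sum.inr (2 + i.val - 2) : ℕ ⊕ ℕ) = Sum.inr i.val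
    rw [if_neg h2, Nat.add_sub_cancel_left]

def rowFull (D : ChevalleyDatum) (r i : ℕ) : List (ℕ × ℤ × ℕ) :=
  (List.range 14).flatMap fun j =>
    (entry D r (nidx i) (nidx j)).filterMap fun e => if e.1 = 0 then none else some (j, e.1, e.2)

theorem tab_eq : ∀ r < 12, ∀ i < 14, rowFull chevG2 r i = (tab.getD r []).getD i [] := by
  decide +kernel

theorem sum_filterMap {K : Type*} [Field K] (t : K) (j : ℕ) (w : ℕ → K) (l : List (ℤ × ℕ)) :
    (((l.filterMap fun e => if e.1 = 0 then none else some (j, e.1, e.2)).map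
      fun e : ℕ × ℤ × ℕ => ((e.2.1 : ℤ) : K) * t ^ e.2.2 * w e.1).sum) =
      ((l.map fun e => (e.1 : K) * t ^ e.2).sum) * w j := by
  induction l with
  | nil => simp
  | cons e l ih =>
    rw [List.filterMap_cons]
    by_cases h : e.1 = 0
    · simp only [h, if_true, List.map_cons, List.sum_cons, Int.cast_zero, zero_mul, zero_add]
      exact ih
    · simp only [h, if_false, List.map_cons, List.sum_cons]
      rw [ih]
      ring

theorem sum_flatMap {α β : Type*} [AddMonoid β] (l : List α) (f : α → List β) :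
    (l.flatMap f).sum = (l.map fun a => (f a).sum).sum := by
  induction l with
  | nil => simp
  | cons a l ih => rw [List.flatMap_cons, List.sum_append, ih, List.map_cons, List.sum_cons]

/-- root element -/
def xS (n r : ℕ) (c : Pol) : SMat :=
  (tab.getD r []).map fun row => row.map fun e => (e.1, Pol.mulAdd n [((0, 0, 0, 0), e.2.1)] (Pol.pow n c e.2.2) [])

theorem toMat_xS {K : Type*} [Field K] {n : ℕ} (hn : (n : K) = 0) (v : Val K) (r : ℕ) (hr : r < 12) (c : Pol) :
    toMat v (xS n r c) = chevG2.x K r (Pol.eval v c) := by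
  have hx : chevG2.x K r (Pol.eval v c) = chevG2.xMat K ⟨r, hr⟩ (Pol.eval v c) := dif_pos hr
  rw [hx]
  ext i j
  rw [xMat_eq_entry]
  have h1 : (xS n r c).getD (pos i) [] = ((rowFull chevG2 r (pos i)).map
      fun e => (e.1, Pol.mulAdd n [((0, 0, 0, 0), e.2.1)] (Pol.pow n c e.2.2) [])) := by
    rw [tab_eq r hr (pos i) (pos_lt i)]
    unfold xS
    rw [List.getD_eq_getElem?_getD, List.getElem?_map, List.getD_eq_getElem?_getD (l := tab.getD r [])]
    cases h : (tab.getD r [])[pos i]? with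
    | none => simp
    | some r => simp
  change rowEval v ((xS n r c).getD (pos i) []) (fun k => if k = pos j then 1 else 0) = _
  rw [h1]
  unfold rowEval
  rw [List.map_map]
  have h2 : ((fun e : ℕ × Pol => Pol.eval v e.2 * (fun k => if k = pos j then (1 : K) else 0) e.1) ∘
      fun e : ℕ × ℤ × ℕ => (e.1, Pol.mulAdd n [((0, 0, 0, 0), e.2.1)] (Pol.pow n c e.2.2) [])) =
      fun e : ℕ × ℤ × ℕ => ((e.2.1 : ℤ) : K) * (Pol.eval v c) ^ e.2.2 * (if e.1 = pos j then (1 : K) else 0) := by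
    funext e
    simp only [Function.comp, Pol.eval_mulAdd hn, Pol.eval_pow hn, Pol.eval_nil, Pol.eval_cons, Mon.eval,
      zpow_zero, pow_zero, mul_one, add_zero]
  rw [h2]
  unfold rowFull
  rw [List.map_flatMap, sum_flatMap]
  have h3 : ∀ f : ℕ → K, ((List.range 14).map f).sum = ∑ k ∈ Finset.range 14, f k := fun f => rfl
  rw [h3, Finset.sum_congr rfl (fun b _ => sum_filterMap (Pol.eval v c) b
    (fun k => if k = pos j then (1 : K) else 0) (entry chevG2 r (nidx (pos i)) (nidx b))),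
    Finset.sum_eq_single (pos j)]
  · rw [if_pos rfl, mul_one, nidx_pos, nidx_pos]
  · intro b _ hb
    rw [if_neg hb, mul_zero]
  · intro h
    exact absurd (Finset.mem_range.2 (pos_lt j)) h

end Cfsg.Agent.ChevalleyStructure.Ree.Calc
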