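import Cfsg.Agent.ChevalleyStructure.Ree.Calc
import Cfsg.Prelude.Def_LieTypes

/-!
# Kernel-checked word identities in G₂, mostly in characteristic 3 (used in `Ree.Words`)
-/

set_option autoImplicit false

namespace Cfsg.Agent.ChevalleyStructure.Ree.Checks

open Cfsg.Lie Cfsg.Agent.ChevalleyStructure.Ree.Calc

section Letters

variable {K : Type*} [Field K]

/-- root element as a matrix -/
abbrev X (r : ℕ) (t : K) : Matrix chevG2.Idx chevG2.Idx K := chevG2.x K r t

/-- `e_r ↦ -e_{-r}`, `h ↦ -h`. -/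
def nMat (K : Type*) [Field K] : Matrix chevG2.Idx chevG2.Idx K :=
  Matrix.of fun i j =>
    match i, j with
    | Sum.inl i, Sum.inl j => if i = j then -1 else 0
    | Sum.inr r, Sum.inr s => if r.val + s.val = 11 then -1 else 0
    | _, _ => 0

/-- coefficients of the root with index `r` on the fundamental roots `a`, `b` (see the end of `Def_ChevG2`). -/
def rootA (r : ℕ) : ℤ := [-3, -3, -2, -1, -1, 0, 0, 1, 1, 2, 3, 3].getD r 0

/-- coefficients of the root with index `r` on the fundamental roots `a`, `b` (see the end of `Def_ChevG2`). -/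
def rootB (r : ℕ) : ℤ := [-2, -1, -1, -1, 0, -1, 1, 0, 1, 1, 1, 2].getD r 0

/-- the diagonal matrix `1` on the `h`s and `α^i β^j` on the root `i a + j b`. -/
def hMat (α β : K) : Matrix chevG2.Idx chevG2.Idx K :=
  Matrix.diagonal fun i => match i with
    | Sum.inl _ => 1
    | Sum.inr r => α ^ rootA r.val * β ^ rootB r.val

/-- monomial sparse matrix -/
def monoS (σ : ℕ → ℕ) (c : ℕ → Pol) : SMat := (List.range 14).map fun i => [(σ i, c i)]

theorem toMat_monoS (v : Val K) (σ : ℕ → ℕ) (c : ℕ → Pol) (i j : chevG2.Idx) :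
    toMat v (monoS σ c) i j = if σ (pos i) = pos j then Pol.eval v (c (pos i)) else 0 := by
  have h : (monoS σ c).getD (pos i) [] = [(σ (pos i), c (pos i))] := by
    unfold monoS
    rw [List.getD_eq_getElem?_getD, List.getElem?_map, List.getElem?_range (pos_lt i)]
    rfl
  change rowEval v ((monoS σ c).getD (pos i) []) (fun k => if k = pos j then 1 else 0) = _
  rw [h]
  simp [rowEval]

def sigN (i : ℕ) : ℕ := if i < 2 then i else 15 - i

/-- the sparse form of `nMat` -/
def nS : SMat := monoS sigN fun _ => [((0, 0, 0, 0), -1)]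

theorem toMat_nS (v : Val K) : toMat v nS = nMat K := by
  ext i j
  rw [nS, toMat_monoS]
  have he : Pol.eval v [((0, 0, 0, 0), -1)] = -1 := by simp [Pol.eval, Mon.eval]
  rw [he]
  rcases i with i | i <;> rcases j with j | j
  · have hi : i.val < 2 := i.isLt
    show (if sigN i.val = j.val then (-1 : K) else 0) = if i = j then -1 else 0
    simp [sigN, hi, Fin.ext_iff]
  · have hi : i.val < 2 := i.isLt
    show (if sigN i.val = 2 + j.val then (-1 : K) else 0) = 0
    rw [if_neg]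
    simp only [sigN, hi, if_true]
    omega
  · have hi : i.val < 12 := i.isLt
    have hj : j.val < 2 := j.isLt
    show (if sigN (2 + i.val) = j.val then (-1 : K) else 0) = 0
    rw [if_neg]
    have : ¬ (2 + i.val < 2) := by omega
    simp only [sigN, this, if_false]
    omega
  · have hi : i.val < 12 := i.isLt
    have hj : j.val < 12 := j.isLt
    show (if sigN (2 + i.val) = 2 + j.val then (-1 : K) else 0) = if i.val + j.val = 11 then -1 else 0
    have : ¬ (2 + i.val < 2) := by omega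
    simp only [sigN, this, if_false]
    congr 1
    apply propext
    omega

/-- monomials in the two units -/
abbrev UM := ℤ × ℤ

def UM.pol (m₁ m₂ : UM) (i : ℕ) : Pol :=
  if i < 2 then one else [((m₁.1 * rootA (i - 2) + m₂.1 * rootB (i - 2), m₁.2 * rootA (i - 2) + m₂.2 * rootB (i - 2), 0, 0), 1)]

/-- the sparse form of `hMat (a^m₁.1 b^m₁.2) (a^m₂.1 b^m₂.2)` -/
def hS (m₁ m₂ : UM) : SMat := monoS id (UM.pol m₁ m₂)

theorem toMat_hS (v : Val K) (m₁ m₂ : UM) :
    toMat v (hS m₁ m₂) = hMat (v.a ^ m₁.1 * v.b ^ m₁.2) (v.a ^ m₂.1 * v.b ^ m₂.2) := by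
  ext i j
  rw [hS, toMat_monoS]
  have hij : (id (pos i) = pos j) ↔ i = j :=
    ⟨fun h => by rw [← idx_pos i, ← idx_pos j]; exact congrArg idx h, fun h => by rw [h]; rfl⟩
  rw [hMat, Matrix.diagonal_apply]
  by_cases h : i = j
  · subst h
    rw [if_pos rfl, if_pos (by rfl)]
    rcases i with i | i
    · have hi : i.val < 2 := i.isLt
      show Pol.eval v (UM.pol m₁ m₂ i.val) = 1
      rw [UM.pol, if_pos hi, eval_one]
    · have : ¬ (2 + i.val < 2) := by omega
      show Pol.eval v (UM.pol m₁ m₂ (2 + i.val)) = _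
      rw [UM.pol, if_neg this, Nat.add_sub_cancel_left, Pol.eval_cons, Pol.eval_nil, Mon.eval]
      simp only [zpow_add₀ v.ha, zpow_add₀ v.hb, zpow_mul, mul_zpow, pow_zero, mul_one, add_zero, Int.cast_one,
        one_mul]
      ring
  · rw [if_neg (fun h' => h (hij.1 h')), if_neg h]

end Letters

/-! ### checked identities -/

section Checks

/-- `c s^i t^j` -/
def cm (c : ℤ) (i j : ℕ) : Pol := [((0, 0, i, j), c)]
/-- `s + t` -/
def cst : Pol := [((0, 0, 1, 0), 1), ((0, 0, 0, 1), 1)]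
/-- `c a^i b^j` -/
def cu (c : ℤ) (i j : ℤ) : Pol := [((i, j, 0, 0), c)]

theorem check_zero : (List.range 12).all (fun r => check 0 [xS 0 r []] []) = true := by
  decide +kernel

theorem check_add : (List.range 12).all (fun r => check 0 [xS 0 r (cm 1 1 0), xS 0 r (cm 1 0 1)] [xS 0 r cst]) = true := by
  decide +kernel

/-- commuting pairs of roots in characteristic 3 -/
def commPairs : List (ℕ × ℕ) :=
  [(6, 8), (6, 9), (6, 11), (7, 9), (7, 10), (7, 11), (8, 9), (8, 10), (8, 11), (9, 10), (9, 11), (10, 11),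
   (8, 1), (10, 3), (1, 3)]

theorem check_comm : commPairs.all (fun p =>
    check 3 [xS 3 p.1 (cm 1 1 0), xS 3 p.2 (cm 1 0 1)] [xS 3 p.2 (cm 1 0 1), xS 3 p.1 (cm 1 1 0)]) = true := by
  decide +kernel

theorem check_67 : check 3 [xS 3 6 (cm 1 1 0), xS 3 7 (cm 1 0 1)]
    [xS 3 7 (cm 1 0 1), xS 3 6 (cm 1 1 0), xS 3 8 (cm 1 1 1), xS 3 9 (cm 1 1 2), xS 3 10 (cm (-1) 1 3),
      xS 3 11 (cm (-1) 2 3)] = true := by
  decide +kernel

theorem check_87 : check 3 [xS 3 8 (cm 1 1 0), xS 3 7 (cm 1 0 1)]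
    [xS 3 7 (cm 1 0 1), xS 3 8 (cm 1 1 0), xS 3 9 (cm (-1) 1 1)] = true := by
  decide +kernel

theorem check_106 : check 3 [xS 3 10 (cm 1 1 0), xS 3 6 (cm 1 0 1)]
    [xS 3 6 (cm 1 0 1), xS 3 10 (cm 1 1 0), xS 3 11 (cm (-1) 1 1)] = true := by
  decide +kernel

theorem check_n_conj : (List.range 12).all (fun r =>
    check 3 [nS, xS 3 r (cm 1 1 0)] [xS 3 (11 - r) (cm (-1) 1 0), nS]) = true := by
  decide +kernel

theorem check_n_sq : check 0 [nS, nS] [] = true := by
  decide +kernel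

/-- `h(a, b) x_r(s) = x_r(a^i b^j s) h(a, b)` -/
theorem check_h_conj : ((List.range 6).map (fun r => r + 6)).all (fun r =>
    check 0 [hS (1, 0) (0, 1), xS 0 r (cm 1 1 0)]
      [xS 0 r [((rootA r, rootB r, 1, 0), 1)], hS (1, 0) (0, 1)]) = true := by
  decide +kernel

/-- `n_{a+b}(a) n_{3a+b}(b)` in characteristic 3 -/
theorem check_n : check 3 [xS 3 8 (cu 1 1 0), xS 3 10 (cu 1 0 1), xS 3 3 (cu (-1) (-1) 0), xS 3 1 (cu (-1) 0 (-1)),
    xS 3 8 (cu 1 1 0), xS 3 10 (cu 1 0 1), nS] [hS (-1, 1) (3, -1)] = true := by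
  decide +kernel

/-- the prime field elements giving the involution -/
theorem check_inv : check 3 [xS 3 7 (cu (-1) 0 0), xS 3 6 (cu (-1) 0 0), xS 3 8 (cu 1 0 0), xS 3 9 (cu 1 0 0),
      xS 3 11 (cu (-1) 0 0),
      xS 3 4 (cu (-1) 0 0), xS 3 5 (cu (-1) 0 0), xS 3 3 (cu (-1) 0 0), xS 3 2 (cu 1 0 0), xS 3 0 (cu (-1) 0 0),
      xS 3 7 (cu (-1) 0 0), xS 3 6 (cu (-1) 0 0), xS 3 8 (cu 1 0 0), xS 3 9 (cu 1 0 0), xS 3 11 (cu (-1) 0 0), nS]
    [monoS id fun i => if i < 2 then one else [((0, 0, 0, 0), if (rootA (i - 2) + rootB (i - 2)) % 2 = 0 then 1 else -1)]]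
      = true := by
  decide +kernel

end Checks

end Cfsg.Agent.ChevalleyStructure.Ree.Checks
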