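/-
The small Ree groups satisfy the abstract relations of `ReeAbs.Data`.
-/
import Cfsg.Agent.ChevalleyStructure.Ree.Normal
import Cfsg.Agent.LieRecognition.ReeAbs

set_option autoImplicit false
set_option linter.dupNamespace false
set_option linter.unusedSectionVars false

namespace Cfsg.Agent.ChevalleyStructure.Ree.Data

open Cfsg.Lie
open Cfsg.Agent.ChevalleyStructure.Ree.Words Cfsg.Agent.ChevalleyStructure.Ree.Gens
open Cfsg.Agent.ChevalleyStructure.Ree.Normal Cfsg.Agent.LieRecognition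

variable {K : Type*} [Field K]

/-- elements of `U` in the group -/
def U (K : Type*) [Field K] (e : ℕ) (t u v : K) : ↥(twistedG2 K e) := ⟨wU e t u v, wU_mem e t u v⟩

theorem coe_U (e : ℕ) (t u v : K) : ((U K e t u v : ↥(twistedG2 K e)) : GL chevG2.Idx K) = wU e t u v := rfl

variable {θ : K →+* K} {e : ℕ} (c : Ctx θ e)

/-- torus elements in the group -/
def T (c : Ctx θ e) (α : Kˣ) : ↥(twistedG2 K e) := ⟨tU e α, c.torus α⟩

/-- the Weyl element in the group -/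
def N (c : Ctx θ e) : ↥(twistedG2 K e) := ⟨nU K, c.nU_mem⟩

theorem coe_T (α : Kˣ) : ((T c α : ↥(twistedG2 K e)) : GL chevG2.Idx K) = tU e α := rfl

theorem coe_N : ((N c : ↥(twistedG2 K e)) : GL chevG2.Idx K) = nU K := rfl

/-- The small Ree groups satisfy the relations and have the normal form of `ReeAbs.Data`. -/
theorem data {m : ℕ} {θ : K →+* K} (c : Ctx θ (3 ^ m)) : ReeAbs.Data m (U K (3 ^ m)) (T c) (N c) where
  U_mul t u v t' u' v' := by
    apply Subtype.ext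
    rw [Subgroup.coe_mul, coe_U, coe_U, coe_U, wU_mul c.theta]
    have h : (t' ^ 3 ^ m) ^ 3 = t' ^ 3 ^ (m + 1) := by rw [← pow_mul, pow_succ]
    rw [h]
  h_mul a b := by
    apply Subtype.ext
    rw [Subgroup.coe_mul, coe_T, coe_T, coe_T, tU_mul]
  h_U a t u v := by
    apply Subtype.ext
    rw [Subgroup.coe_mul, Subgroup.coe_mul, coe_T, coe_U, coe_U, c.tU_wU]
    have h1 : 3 * 3 ^ m = 3 ^ (m + 1) := by rw [pow_succ, mul_comm]
    have h2 : 6 * 3 ^ m = 2 * 3 ^ (m + 1) := by rw [pow_succ]; ring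
    rw [h1, h2, ← pow_add, ← pow_add]
  n_h a := by
    apply Subtype.ext
    rw [Subgroup.coe_mul, Subgroup.coe_mul, coe_T, coe_T, coe_N, Blocks.nU_tU]
  n_n := by
    apply Subtype.ext
    rw [Subgroup.coe_mul, coe_N, nU_mul_self]
    rfl
  n_U := by
    apply Subtype.ext
    rw [Subgroup.coe_mul, Subgroup.coe_mul, Subgroup.coe_mul, Subgroup.coe_mul, coe_N, coe_U, coe_U]
    have h1 : nU K * wU (3 ^ m) 0 1 0 * nU K = vU (3 ^ m) 0 1 0 := by
      have := nU_conj_wU c.theta (0 : K) 1 0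
      rwa [nU_inv] at this
    have h2 : wU (3 ^ m) (0 : K) 1 0 * vU (3 ^ m) 0 1 0 * wU (3 ^ m) 0 1 0 = nU K := by
      apply Units.ext
      rw [Units.val_mul, Units.val_mul, coe_wU, coe_vU, coe_nU, W_V_W c.theta]
    have h3 : wU (3 ^ m) (0 : K) (-1) 0 = (wU (3 ^ m) (0 : K) 1 0)⁻¹ := by
      rw [c.wU_inv]; congr 1 <;> simp
    rw [h1, h3, ← h2]
    group
  bruhat g := by
    rcases c.bruhat g.2 with ⟨t, u, v, α, h⟩ | ⟨t, u, v, α, t', u', v', h⟩
    · exact Or.inl ⟨t, u, v, α, Subtype.ext h⟩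
    · exact Or.inr ⟨t, u, v, α, t', u', v', Subtype.ext h⟩
  inj₁ t u v a t' u' v' a' h := c.inj1 (congrArg Subtype.val h)
  ne t u v a t' u' v' a' t'' u'' v'' h := c.ne (congrArg Subtype.val h)
  inj₂ t u v a t' u' v' t₁ u₁ v₁ a₁ t₁' u₁' v₁' h := c.inj2 (congrArg Subtype.val h)

/-- For `K` with `3^(2m+1)` elements there are elements of `²G₂(K)` as in `ReeAbs.Data`. -/
theorem exists_data [Fintype K] {m : ℕ} (hK : Fintype.card K = 3 ^ (2 * m + 1)) :
    ∃ (U : K → K → K → ↥(twistedG2 K (3 ^ m))) (h : Kˣ → ↥(twistedG2 K (3 ^ m))) (n : ↥(twistedG2 K (3 ^ m))),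
      ReeAbs.Data m U h n := by
  obtain ⟨θ, c⟩ := exists_ctx hK
  exact ⟨_, _, _, data c⟩

end Cfsg.Agent.ChevalleyStructure.Ree.Data
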