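/-
Simplicity of groups with the Bruhat normal form of the small Ree groups.
-/
import Cfsg.Agent.ChevalleyStructure.Ree.Data
import Cfsg.Agent.ChevalleyStructure.Ree.Perfect

set_option autoImplicit false
set_option linter.dupNamespace false
set_option linter.unusedSectionVars false

namespace Cfsg.Agent.ChevalleyStructure.Ree.Simple

open Cfsg.Agent.LieRecognition Cfsg.Agent.LieRecognition.ReeAbs

variable {K : Type*} [Field K] {G : Type*} [Group G]
variable {m : ℕ} {U : K → K → K → G} {h : Kˣ → G} {n : G} (D : ReeAbs.Data m U h n)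

include D in
theorem U_inv (t u v : K) : ∃ t' u' v', (U t u v)⁻¹ = U t' u' v' := by
  obtain ⟨v', hv'⟩ : ∃ v', v + v' - u * (-t) - t ^ 2 * (-t) ^ (3 ^ (m + 1)) + t * (-t) * (-t) ^ (3 ^ (m + 1)) = 0 :=
    ⟨-(v - u * (-t) - t ^ 2 * (-t) ^ (3 ^ (m + 1)) + t * (-t) * (-t) ^ (3 ^ (m + 1))), by ring⟩
  refine ⟨-t, -u + t * (-t) ^ (3 ^ (m + 1)), v', ?_⟩
  apply inv_eq_of_mul_eq_one_right
  rw [D.U_mul, hv', ← D.U_zero]
  congr 1 <;> ring

/-- the Borel subgroup -/
def borel : Subgroup G where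
  carrier := {g | ∃ t u v a, g = U t u v * h a}
  one_mem' := ⟨0, 0, 0, 1, by rw [D.U_zero, D.h_one, one_mul]⟩
  mul_mem' := by
    rintro _ _ ⟨t, u, v, a, rfl⟩ ⟨t', u', v', a', rfl⟩
    rw [show U t u v * h a * (U t' u' v' * h a') = U t u v * (h a * U t' u' v') * h a' by group, D.h_U,
      ← mul_assoc, D.U_mul, mul_assoc, ← D.h_mul]
    exact ⟨_, _, _, _, rfl⟩
  inv_mem' := by
    rintro _ ⟨t, u, v, a, rfl⟩
    obtain ⟨t', u', v', h1⟩ := U_inv D t u v
    rw [mul_inv_rev, h1, ← D.h_inv, D.h_U]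
    exact ⟨_, _, _, _, rfl⟩

theorem mem_borel {g : G} : g ∈ borel D ↔ ∃ t u v a, g = U t u v * h a := Iff.rfl

theorem U_mem (t u v : K) : U t u v ∈ borel D := ⟨t, u, v, 1, by rw [D.h_one, mul_one]⟩

theorem h_mem (a : Kˣ) : h a ∈ borel D := ⟨0, 0, 0, a, by rw [D.U_zero, one_mul]⟩

theorem n_not_mem : n ∉ borel D := by
  rintro ⟨t, u, v, a, hn⟩
  refine D.ne t u v a 0 0 0 1 0 0 0 ?_
  rw [← hn, D.U_zero, D.h_one, one_mul, one_mul, mul_one]

theorem exists_tor (g : borel D) : ∃ a, ∃ t u v, (g : G) = U t u v * h a := by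
  obtain ⟨t, u, v, a, hg⟩ := g.2
  exact ⟨a, t, u, v, hg⟩

/-- the torus part -/
noncomputable def torFun (g : borel D) : Kˣ := (exists_tor D g).choose

theorem torFun_eq (g : borel D) {t u v : K} {a : Kˣ} (hg : (g : G) = U t u v * h a) : torFun D g = a := by
  obtain ⟨t', u', v', h'⟩ := (exists_tor D g).choose_spec
  exact (D.inj₁ _ _ _ _ _ _ _ _ (h'.symm.trans hg)).2.2.2

/-- the torus part as a homomorphism -/
noncomputable def tor : borel D →* Kˣ := MonoidHom.mk' (torFun D) (by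
  intro x y
  obtain ⟨t, u, v, a, hx⟩ := x.2
  obtain ⟨t', u', v', b, hy⟩ := y.2
  rw [torFun_eq D x hx, torFun_eq D y hy]
  have h1 : ((x * y : borel D) : G) = U t u v * (h a * U t' u' v') * h b := by
    rw [Subgroup.coe_mul, hx, hy]; group
  rw [D.h_U, ← mul_assoc, D.U_mul, mul_assoc, ← D.h_mul] at h1
  exact torFun_eq D (x * y) h1)

theorem mem_ker_tor (g : borel D) : g ∈ (tor D).ker ↔ ∃ t u v, (g : G) = U t u v := by
  rw [MonoidHom.mem_ker]
  constructor
  · intro h1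
    obtain ⟨t, u, v, a, hg⟩ := g.2
    have h2 : tor D g = a := torFun_eq D g hg
    rw [h1] at h2
    exact ⟨t, u, v, by rw [hg, ← h2, D.h_one, mul_one]⟩
  · rintro ⟨t, u, v, hg⟩
    exact torFun_eq D g (t := t) (u := u) (v := v) (by rw [hg, D.h_one, mul_one])

/-- the elements of the kernel -/
noncomputable def kerEquiv : K × K × K ≃ (tor D).ker :=
  Equiv.ofBijective (fun p => ⟨⟨U p.1 p.2.1 p.2.2, U_mem D _ _ _⟩, (mem_ker_tor D _).2 ⟨_, _, _, rfl⟩⟩) (by
    constructor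
    · rintro ⟨t, u, v⟩ ⟨t', u', v'⟩ hp
      have h1 : U t u v = U t' u' v' := congrArg (fun x : (tor D).ker => (x : G)) hp
      obtain ⟨h2, h3, h4, -⟩ := D.inj₁ t u v 1 t' u' v' 1 (by rw [h1])
      rw [h2, h3, h4]
    · rintro ⟨g, hg⟩
      obtain ⟨t, u, v, h1⟩ := (mem_ker_tor D g).1 hg
      exact ⟨(t, u, v), Subtype.ext (Subtype.ext h1.symm)⟩)

theorem borel_solvable [Fintype K] (hK : Fintype.card K = 3 ^ (2 * m + 1)) : Group.IsSolvable (borel D) := by
  have : Fact (Nat.Prime 3) := ⟨Nat.prime_three⟩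
  have hc : Nat.card (tor D).ker = 3 ^ (3 * (2 * m + 1)) := by
    rw [← Nat.card_congr (kerEquiv D), Nat.card_prod, Nat.card_prod, Nat.card_eq_fintype_card, hK]
    ring
  have hp : IsPGroup 3 (tor D).ker := IsPGroup.of_card hc
  have hf : Finite (tor D).ker := Nat.finite_of_card_ne_zero (by rw [hc]; positivity)
  have hn : Group.IsNilpotent (tor D).ker := hp.isNilpotent
  exact Group.isSolvable_of_ker_le_range (tor D).ker.subtype (tor D) (by rw [Subgroup.range_subtype])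

theorem sup_eq_top {H : Subgroup G} (hB : borel D ≤ H) {g : G} (hg : g ∈ H) (hgB : g ∉ borel D) : H = ⊤ := by
  have hn : n ∈ H := by
    rcases D.bruhat g with h1 | ⟨t, u, v, a, t', u', v', h1⟩
    · exact absurd h1 hgB
    · have h2 : n = (U t u v * h a)⁻¹ * g * (U t' u' v')⁻¹ := by rw [h1]; group
      rw [h2]
      exact mul_mem (mul_mem (inv_mem (hB ⟨_, _, _, _, rfl⟩)) hg) (inv_mem (hB (U_mem D _ _ _)))
  rw [eq_top_iff]
  intro x _
  rcases D.bruhat x with ⟨t, u, v, a, rfl⟩ | ⟨t, u, v, a, t', u', v', rfl⟩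
  · exact hB ⟨_, _, _, _, rfl⟩
  · exact mul_mem (mul_mem (hB ⟨_, _, _, _, rfl⟩) hn) (hB (U_mem D _ _ _))

/-- a normal subgroup contained in the Borel subgroup is trivial -/
theorem eq_one_of_le [Fintype K] (hK : Fintype.card K = 3 ^ (2 * m + 1)) {N : Subgroup G} (hN : N.Normal)
    (hB : N ≤ borel D) : N = ⊥ := by
  rw [eq_bot_iff]
  -- elements of `N` lie in the torus
  have key : ∀ x ∈ N, ∃ a, x = h a := by
    intro x hx
    obtain ⟨t, u, v, a, h1⟩ := hB hx
    have h2 := hB (hN.conj_mem x hx n)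
    rw [D.n_inv, h1] at h2
    have h3 : n * (U t u v * h a) * n * (h a⁻¹)⁻¹ ∈ borel D := mul_mem h2 (inv_mem (h_mem D _))
    have h4 : n * (U t u v * h a) * n * (h a⁻¹)⁻¹ = n * U t u v * n := by
      have e1 : n * (U t u v * h a) * n * (h a⁻¹)⁻¹ = n * U t u v * (h a * n) * (h a⁻¹)⁻¹ := by group
      rw [e1, D.n_h' a]
      group
    rw [h4] at h3
    obtain ⟨t', u', v', a', h5⟩ := h3
    have h6 : U 0 0 0 * h 1 * n * U t u v = U t' u' v' * h a' * n * U 0 0 0 := by
      rw [D.U_zero, D.h_one, one_mul, one_mul, mul_one, ← h5, mul_assoc, D.n_n, mul_one]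
    obtain ⟨-, -, -, -, rfl, rfl, rfl⟩ := D.inj₂ _ _ _ _ _ _ _ _ _ _ _ _ _ _ h6
    exact ⟨a, by rw [h1, D.U_zero, one_mul]⟩
  intro x hx
  obtain ⟨a, rfl⟩ := key x hx
  have h1 := hN.conj_mem _ hx (U 1 0 0)
  obtain ⟨b, h2⟩ := key _ h1
  have h3 : U 1 0 0 * h a = h b * U 1 0 0 := by rw [← h2]; group
  rw [D.h_U] at h3
  obtain ⟨h4, -, -, rfl⟩ := D.inj₁ _ _ _ _ _ _ _ _ h3
  rw [mul_one] at h4
  have h5 : a = 1 := eq_one_of_pow_three hK (m + 1) a (by
    apply Units.ext
    rw [Units.val_pow_eq_pow_val, Units.val_one, ← h4])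
  rw [h5, D.h_one]
  exact one_mem _

include D in
theorem isSimple [Fintype K] (hK : Fintype.card K = 3 ^ (2 * m + 1)) (hperf : commutator G = ⊤) :
    IsSimpleGroup G := by
  have hnt : Nontrivial G := ⟨⟨n, 1, fun h1 => n_not_mem D ((congrArg (fun x => x ∈ borel D) h1).mpr (one_mem _))⟩⟩
  refine ⟨fun N hN => ?_⟩
  by_cases hB : N ≤ borel D
  · exact Or.inl (eq_one_of_le D hK hN hB)
  · right
    obtain ⟨g, hg, hgB⟩ := SetLike.not_le_iff_exists.1 hB
    have htop : borel D ⊔ N = ⊤ := sup_eq_top D le_sup_left (Subgroup.mem_sup_right hg) hgB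
    have hsol : Group.IsSolvable (borel D) := borel_solvable D hK
    -- the quotient is solvable
    let f : borel D →* G ⧸ N := (QuotientGroup.mk' N).comp (borel D).subtype
    have hf : Function.Surjective f := by
      intro q
      obtain ⟨x, rfl⟩ := QuotientGroup.mk'_surjective N q
      have hx : x ∈ borel D ⊔ N := by rw [htop]; exact Subgroup.mem_top _
      obtain ⟨b, hb, y, hy, rfl⟩ := Subgroup.mem_sup_of_normal_right.1 hx
      refine ⟨⟨b, hb⟩, ?_⟩
      show QuotientGroup.mk' N b = QuotientGroup.mk' N (b * y)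
      rw [map_mul, (QuotientGroup.eq_one_iff y).2 hy |> fun h => (show QuotientGroup.mk' N y = 1 from h), mul_one]
    have hq : Group.IsSolvable (G ⧸ N) := Group.isSolvable_of_surjective hf
    have hperfq : commutator (G ⧸ N) = ⊤ := by
      have h1 := map_derivedSeries_eq (QuotientGroup.mk'_surjective N) 1
      rw [derivedSeries_one, derivedSeries_one, hperf, ← MonoidHom.range_eq_map,
        MonoidHom.range_eq_top.2 (QuotientGroup.mk'_surjective N)] at h1
      exact h1.symm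
    by_contra hN1
    have : Nontrivial (G ⧸ N) := (QuotientGroup.nontrivial_iff).2 hN1
    have h2 := Group.IsSolvable.commutator_lt_top_of_nontrivial (G := G ⧸ N)
    exact absurd hperfq h2.ne

end Cfsg.Agent.ChevalleyStructure.Ree.Simple
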